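import Cfsg.Agent.RegularLinear.Basic

/-!
# Actions in which every point has a subgroup acting freely on the other points

`transitive_of_free`, `false_of_twice_odd`, `false_of_twentyeight`.
-/

set_option autoImplicit false
set_option linter.unusedSectionVars false

namespace CfsgLib.OrthExtThree

open MulAction

section General

variable {V X : Type*} [Group V] [MulAction V X] [Finite V] [Finite X]

theorem card_dvd_of_stabilizer {d : ℕ} (h : ∀ x : X, Nat.card (stabilizer V x) ∣ d) :
    Nat.card V ∣ d * Nat.card X := by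
  classical
  have := Fintype.ofFinite (orbitRel.Quotient V X)
  rw [Nat.card_congr (selfEquivSigmaOrbitsQuotientStabilizer V X), Nat.card_sigma, Finset.mul_sum]
  refine Finset.dvd_sum fun ω _ => ?_
  rw [Subgroup.card_eq_card_quotient_mul_card_subgroup (stabilizer V ω.out)]
  obtain ⟨e, he⟩ := h ω.out
  exact ⟨e, by rw [he]; ring⟩

theorem card_dvd_of_free (h : ∀ (v : V) (x : X), v • x = x → v = 1) : Nat.card V ∣ Nat.card X := by
  simpa using card_dvd_of_stabilizer (V := V) (X := X) (d := 1) fun x => by
    rw [Subgroup.card_eq_one.2 ((Subgroup.eq_bot_iff_forall _).2 fun v hv => h v x hv)]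

end General

variable {G X : Type*} [Group G] [MulAction G X] [Finite G] [Finite X]

/-- A subgroup of order `n` fixing `b` and moving every other point. -/
def HasFree (G : Type*) {X : Type*} [Group G] [MulAction G X] (n : ℕ) (b : X) : Prop :=
  ∃ V : Subgroup G, Nat.card V = n ∧ (∀ v ∈ V, v • b = b) ∧ ∀ v ∈ V, v ≠ 1 → ∀ x : X, v • x = x → x = b

theorem transitive_of_free {n : ℕ} (hn : n ≠ 1) (h : ∀ b : X, HasFree G n b) (a : X) :
    (∀ c : X, c ∈ orbit G a) ∧ n ∣ Nat.card X - 1 := by
  classical
  have key : ∀ (s : Set X), (∀ (g : G), ∀ x ∈ s, g • x ∈ s) → ∀ b : X, n ∣ (s \ {b}).ncard := by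
    intro s hs b
    obtain ⟨V, hV, hfix, hfree⟩ := h b
    let S : SubMulAction V X :=
      { carrier := s \ {b}
        smul_mem' := fun v x hx => ⟨hs (v : G) x hx.1, fun e => hx.2 (by
          have e' : (v : G) • x = b := e
          show x = b
          rw [← inv_smul_smul (v : G) x, e', hfix _ (V.inv_mem v.2)])⟩ }
    have := card_dvd_of_free (V := V) (X := S) fun v x e => by
      by_contra hne
      exact x.2.2 (hfree v v.2 (fun e1 => hne (Subtype.ext e1)) x (congrArg Subtype.val e))
    rwa [hV, show Nat.card S = (s \ {b}).ncard from Nat.card_coe_set_eq _] at this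
  have hO : ∀ g : G, ∀ x ∈ orbit G a, g • x ∈ orbit G a := fun g x hx => by
    obtain ⟨k, rfl⟩ := hx
    exact ⟨g * k, mul_smul g k a⟩
  have htr : ∀ c : X, c ∈ orbit G a := by
    intro c
    by_contra hc
    have h1 := key _ hO a
    have h2 := key _ hO c
    rw [Set.sdiff_singleton_eq_self hc] at h2
    rw [Set.ncard_sdiff_singleton_of_mem (mem_orbit_self a)] at h1
    have hpos : 0 < (orbit G a).ncard := (Set.ncard_pos (Set.toFinite _)).2 ⟨a, mem_orbit_self a⟩
    have := Nat.dvd_sub h2 h1
    rw [Nat.sub_sub_self (by omega)] at this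
    exact hn (Nat.dvd_one.1 this)
  refine ⟨htr, ?_⟩
  have h1 := key _ (fun _ _ _ => Set.mem_univ _) a
  rwa [Set.ncard_sdiff_singleton_of_mem (Set.mem_univ a), Set.ncard_univ] at h1

theorem card_of_transitive (a : X) (htr : ∀ c : X, c ∈ orbit G a) :
    Nat.card G = Nat.card X * Nat.card (stabilizer G a) := by
  rw [Subgroup.card_eq_card_quotient_mul_card_subgroup (stabilizer G a),
    ← Nat.card_congr (orbitEquivQuotientStabilizer G a)]
  congr 1
  rw [show orbit G a = Set.univ from Set.eq_univ_of_forall htr, Nat.card_congr (Equiv.Set.univ X)]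

/-- No twice odd degree with odd stabilisers. -/
theorem false_of_twice_odd {n : ℕ} (hn : n ≠ 1) (hno : Odd n) (h : ∀ b : X, HasFree G n b) (a : X)
    (hst : Odd (Nat.card (stabilizer G a))) {m : ℕ} (hm : Odd m) (hX : Nat.card X = 2 * m) : False := by
  classical
  have : Fact (Nat.Prime 2) := ⟨Nat.prime_two⟩
  obtain ⟨htr, -⟩ := transitive_of_free hn h a
  have hG := card_of_transitive a htr
  rw [hX, mul_assoc] at hG
  have hodd : Odd (m * Nat.card (stabilizer G a)) := hm.mul hst
  obtain ⟨T⟩ : Nonempty (Sylow 2 G) := inferInstance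
  have hT : Nat.card T = 2 := by
    rw [Sylow.card_eq_multiplicity, hG, Nat.factorization_mul (by norm_num) hodd.pos.ne', Finsupp.add_apply,
      Nat.prime_two.factorization_self, Nat.factorization_eq_zero_of_not_dvd
        (by rw [← even_iff_two_dvd]; exact Nat.not_even_iff_odd.2 hodd), add_zero, pow_one]
  have : IsCyclic T := isCyclic_of_prime_card (p := 2) hT
  obtain ⟨N, hNn, hN⟩ := RegLinear.exists_index_two_of_cyclic_sylow T ⟨_, hG⟩
  have hNodd : Odd (Nat.card N) := by
    have e := N.card_mul_index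
    rw [hN, hG] at e
    rwa [show Nat.card N = m * Nat.card (stabilizer G a) by omega]
  have hmemN : ∀ g : G, Odd (orderOf g) → g ∈ N := by
    intro g ⟨k, hk⟩
    have h2 : g * g ∈ N := (Subgroup.mul_mem_iff_of_index_two hN).2 Iff.rfl
    have e : g = ((g * g) ^ k)⁻¹ := by
      rw [eq_inv_iff_mul_eq_one, ← pow_two, ← pow_mul, ← pow_succ', ← hk, pow_orderOf_eq_one]
    rw [e]
    exact N.inv_mem (N.pow_mem h2 k)
  have hN' : ∀ b : X, HasFree N n b := by
    intro b
    obtain ⟨V, hV, hfix, hfree⟩ := h b
    have hle : V ≤ N := fun v hv => hmemN v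
      ((hV ▸ hno).of_dvd_nat (Subgroup.orderOf_dvd_natCard (s := V) hv))
    refine ⟨V.subgroupOf N, ?_, fun v hv => hfix _ (Subgroup.mem_subgroupOf.1 hv), fun v hv hv1 x hx =>
      hfree _ (Subgroup.mem_subgroupOf.1 hv) (fun e => hv1 (Subtype.ext e)) x hx⟩
    rw [Nat.card_congr (Subgroup.subgroupOfEquivOfLe hle).toEquiv, hV]
  obtain ⟨htrN, -⟩ := transitive_of_free hn hN' a
  have e := card_of_transitive a htrN
  rw [hX, mul_assoc] at e
  exact Nat.not_even_iff_odd.2 hNodd ⟨m * Nat.card (stabilizer N a), by omega⟩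

/-- The degree twenty-eight does not occur. -/
theorem false_of_twentyeight (a : X) (htr : ∀ c : X, c ∈ orbit G a) (hX : Nat.card X = 28)
    (U : Subgroup G) (hU : U ≤ stabilizer G a) (hUc : Nat.card U = 27)
    (hfree : ∀ v ∈ U, v ≠ 1 → ∀ x : X, v • x = x → x = a)
    (hnorm : ∀ s ∈ stabilizer G a, ∀ z ∈ U, s * z * s⁻¹ ∈ U)
    (hs : Nat.card (stabilizer G a) = 27 ∨ Nat.card (stabilizer G a) = 81)
    (hc : ∀ x ∈ stabilizer G a, x ∉ U → ∃ z ∈ U, x * z ≠ z * x) : False := by
  classical
  have := Fintype.ofFinite G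
  have := Fintype.ofFinite X
  have : Fact (Nat.Prime 7) := ⟨by norm_num⟩
  have : Fact (Nat.Prime 3) := ⟨Nat.prime_three⟩
  have hG := card_of_transitive a htr
  rw [hX] at hG
  -- the regular action of `U` off `a`
  have hreg : ∀ b, b ≠ a → ∀ b', b' ≠ a → ∃ z ∈ U, z • b = b' := by
    intro b hb b' hb'
    let φ : U → ↥({a}ᶜ : Set X) := fun z => ⟨(z : G) • b, fun e => hb (by
      have e' : (z : G) • b = a := e
      rw [← inv_smul_smul (z : G) b, e']
      exact hU (U.inv_mem z.2))⟩
    have hinj : Function.Injective φ := fun z z' e => by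
      by_contra hne
      refine hb (hfree _ (U.mul_mem (U.inv_mem z'.2) z.2) (fun e1 => hne (Subtype.ext ?_)) b ?_)
      · exact (inv_mul_eq_one.1 e1).symm
      · rw [mul_smul, show (z : G) • b = (z' : G) • b from congrArg Subtype.val e, inv_smul_smul]
    obtain ⟨z, hz⟩ := (hinj.bijective_of_nat_card_le (by
      rw [hUc, Nat.card_coe_set_eq, Set.ncard_compl, Set.ncard_singleton, hX])).2 ⟨b', hb'⟩
    exact ⟨z, z.2, congrArg Subtype.val hz⟩
  obtain ⟨P⟩ : Nonempty (Sylow 7 G) := inferInstance
  have hdvd7 : ¬ 7 ∣ Nat.card (stabilizer G a) := by rcases hs with h | h <;> rw [h] <;> norm_num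
  have hP : ∀ P : Sylow 7 G, Nat.card P = 7 := fun P => by
    rw [Sylow.card_eq_multiplicity, hG, Nat.factorization_mul (by norm_num) (Nat.card_pos).ne',
      Finsupp.add_apply, Nat.factorization_eq_zero_of_not_dvd hdvd7, add_zero, show (28 : ℕ) = 7 * 4 from rfl,
      Nat.factorization_mul (by norm_num) (by norm_num), Finsupp.add_apply, Nat.Prime.factorization_self (by norm_num),
      Nat.factorization_eq_zero_of_not_dvd (n := 4) (by norm_num)]
    rfl
  have h7fix : ∀ y : G, orderOf y = 7 → ∀ b : X, y • b ≠ b := by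
    intro y hy b hb
    obtain ⟨g, rfl⟩ := htr b
    have hmem : g⁻¹ * y * g ∈ stabilizer G a := by
      rw [mem_stabilizer_iff, mul_smul, mul_smul, hb, inv_smul_smul]
    refine hdvd7 ?_
    have h := Subgroup.orderOf_dvd_natCard (s := stabilizer G a) hmem
    rwa [show g⁻¹ * y * g = (MulAut.conj g⁻¹).toMonoidHom y by simp,
      orderOf_injective (MulAut.conj g⁻¹).toMonoidHom (MulEquiv.injective _), hy] at h
  by_cases h9 : 9 ∣ Nat.card (Subgroup.normalizer (P : Set G))
  · -- a 3-element centralising an element of order seven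
    obtain ⟨S, hS⟩ := Sylow.exists_subgroup_card_pow_prime 3 (n := 2) (G := Subgroup.normalizer (P : Set G)) h9
    have hPne : ∃ y : P, y ≠ 1 := by
      have : Nontrivial P := Finite.one_lt_card_iff_nontrivial.1 (by rw [hP]; norm_num)
      exact exists_ne 1
    obtain ⟨⟨y, hyP⟩, hy1⟩ := hPne
    have hy7 : orderOf y = 7 := orderOf_eq_prime (by
      have := Subgroup.orderOf_dvd_natCard (s := (P : Subgroup G)) hyP
      rw [hP] at this
      exact orderOf_dvd_iff_pow_eq_one.1 this) fun e => hy1 (Subtype.ext e)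
    let ψ : S → ↥(((P : Subgroup G) : Set G) \ {1}) := fun s => ⟨(s.1 : G) * y * (s.1 : G)⁻¹,
      (Subgroup.mem_normalizer_iff.1 s.1.2 y).1 hyP, fun e => hy1 (Subtype.ext (by
        have e' : (s.1 : G) * y * (s.1 : G)⁻¹ = 1 := e
        show y = 1
        rw [← mul_left_cancel_iff (a := (s.1 : G)), ← mul_right_cancel_iff (a := (s.1 : G)⁻¹), e']
        group))⟩
    have hninj : ¬ Function.Injective ψ := fun hinj => by
      have := Nat.card_le_card_of_injective ψ hinj
      rw [hS, Nat.card_coe_set_eq, Set.ncard_sdiff_singleton_of_mem (one_mem _),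
        ← Nat.card_coe_set_eq, SetLike.coe_sort_coe, hP] at this
      omega
    obtain ⟨s₁, s₂, he, hne⟩ := Function.not_injective_iff.1 hninj
    obtain ⟨x, hx⟩ : ∃ x, x = (s₂.1 : G)⁻¹ * (s₁.1 : G) := ⟨_, rfl⟩
    have hxy : x * y = y * x := by
      have e : (s₁.1 : G) * y * (s₁.1 : G)⁻¹ = (s₂.1 : G) * y * (s₂.1 : G)⁻¹ := congrArg Subtype.val he
      have := congrArg (fun w => (s₂.1 : G)⁻¹ * w * (s₁.1 : G)) e
      simp only [mul_assoc, inv_mul_cancel, mul_one, inv_mul_cancel_left] at this
      rw [hx, mul_assoc]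
      exact this
    have hx1 : x ≠ 1 := fun e => hne (Subtype.ext (Subtype.ext (inv_mul_eq_one.1 (hx ▸ e)).symm))
    have hx3 : IsPGroup 3 (Subgroup.zpowers x) := by
      have hord : orderOf x ∣ 9 := by
        have h := Subgroup.orderOf_dvd_natCard (s := S) (S.mul_mem (S.inv_mem s₂.2) s₁.2)
        rw [hS] at h
        rw [hx]
        rwa [← orderOf_injective (Subgroup.normalizer (P : Set G)).subtype Subtype.val_injective] at h
      obtain ⟨k, -, hk⟩ := (Nat.dvd_prime_pow (m := 2) Nat.prime_three).1 (by simpa using hord)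
      exact IsPGroup.of_card (n := k) (by rw [Nat.card_zpowers, hk])
    obtain ⟨A, hA⟩ : ∃ A : Set X, A = {b | x • b = b} := ⟨_, rfl⟩
    have hfixed : fixedPoints (Subgroup.zpowers x) X = A := by
      ext b
      rw [hA]
      refine ⟨fun h => h ⟨x, Subgroup.mem_zpowers x⟩, fun h => fun ⟨z, hz⟩ => ?_⟩
      obtain ⟨i, rfl⟩ := hz
      show x ^ i • b = b
      exact (stabilizer G b).zpow_mem (show x ∈ stabilizer G b from h) i
    have hA3 : 28 ≡ A.ncard [MOD 3] := by
      have h := hx3.card_modEq_card_fixedPoints X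
      rwa [hX, hfixed, Nat.card_coe_set_eq] at h
    have hA7 : 7 ∣ A.ncard := by
      have hz7 : Nat.card (Subgroup.zpowers y) = 7 := by rw [Nat.card_zpowers, hy7]
      let SA : SubMulAction (Subgroup.zpowers y) X :=
        { carrier := A
          smul_mem' := fun z b hb => by
            rw [hA] at hb ⊢
            obtain ⟨z, i, rfl⟩ := z
            show x • y ^ i • b = y ^ i • b
            rw [← mul_smul, (Commute.zpow_right hxy i).eq, mul_smul, show x • b = b from hb] }
      have := card_dvd_of_free (V := Subgroup.zpowers y) (X := SA) fun z b e => by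
        by_contra hne
        have hzo : orderOf (z : G) = 7 := by
          have h := Subgroup.orderOf_dvd_natCard (s := Subgroup.zpowers y) z.2
          rw [hz7] at h
          exact ((Nat.dvd_prime (by norm_num)).1 h).resolve_left fun h1 =>
            hne (Subtype.ext (orderOf_eq_one_iff.1 h1))
        exact h7fix z hzo b (congrArg Subtype.val e)
      rwa [hz7, show Nat.card SA = A.ncard from Nat.card_coe_set_eq _] at this
    obtain ⟨b, hb⟩ : A.Nonempty := by
      by_contra h
      rw [Set.not_nonempty_iff_eq_empty.1 h, Set.ncard_empty] at hA3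
      exact absurd hA3 (by decide)
    obtain ⟨g, hg⟩ := htr b
    -- move the fixed point to `a`
    obtain ⟨x', hx'⟩ : ∃ x', x' = g⁻¹ * x * g := ⟨_, rfl⟩
    have hcard : A.ncard = {w : X | x' • w = w}.ncard := by
      rw [← Set.ncard_image_of_injective {w : X | x' • w = w} (MulAction.injective g)]
      congr 1
      ext w
      rw [hA]
      simp only [Set.mem_image, Set.mem_ofPred_eq, hx', mul_smul, inv_smul_eq_iff]
      exact ⟨fun h => ⟨g⁻¹ • w, by rw [smul_inv_smul, h], smul_inv_smul _ _⟩, fun ⟨v, hv, e⟩ => e ▸ hv⟩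
    rw [hcard] at hA7
    have hx's : x' ∈ stabilizer G a := by
      rw [hA] at hb
      rw [mem_stabilizer_iff, hx', mul_smul, mul_smul, show g • a = b from hg, hb, ← hg, inv_smul_smul]
    have hx'1 : x' ≠ 1 := fun e => hx1 (by
      rw [hx', mul_eq_one_iff_eq_inv] at e
      simpa using e)
    by_cases hx'U : x' ∈ U
    · rw [show {w : X | x' • w = w} = {a} from Set.eq_singleton_iff_unique_mem.2
        ⟨hx's, fun w hw => hfree x' hx'U hx'1 w hw⟩, Set.ncard_singleton] at hA7
      exact absurd hA7 (by norm_num)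
    by_cases hb2 : ∃ b₀, x' • b₀ = b₀ ∧ b₀ ≠ a
    swap
    · push Not at hb2
      rw [show {w : X | x' • w = w} = {a} from Set.eq_singleton_iff_unique_mem.2
        ⟨hx's, fun w hw => hb2 w hw⟩, Set.ncard_singleton] at hA7
      exact absurd hA7 (by norm_num)
    obtain ⟨b₀, hb₀, hb₀a⟩ := hb2
    let C : Subgroup G := U ⊓ Subgroup.centralizer {x'}
    have hCA : Nat.card C = ({w : X | x' • w = w} \ {a}).ncard := by
      rw [← Nat.card_coe_set_eq]
      refine Nat.card_eq_of_bijective (fun z => ⟨(z : G) • b₀, ?_, fun e => hb₀a ?_⟩) ⟨fun z z' e => ?_, fun w => ?_⟩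
      · show x' • (z : G) • b₀ = (z : G) • b₀
        rw [← mul_smul, Subgroup.mem_centralizer_iff.1 z.2.2 x' rfl, mul_smul, hb₀]
      · have e' : (z : G) • b₀ = a := e
        rw [← inv_smul_smul (z : G) b₀, e']
        exact hU (U.inv_mem z.2.1)
      · by_contra hne
        refine hb₀a (hfree _ (U.mul_mem (U.inv_mem z'.2.1) z.2.1)
          (fun e1 => hne (Subtype.ext (inv_mul_eq_one.1 e1).symm)) b₀ ?_)
        rw [mul_smul, show (z : G) • b₀ = (z' : G) • b₀ from congrArg Subtype.val e, inv_smul_smul]
      · obtain ⟨z, hzU, hzw⟩ := hreg b₀ hb₀a w w.2.2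
        refine ⟨⟨z, hzU, Subgroup.mem_centralizer_iff.2 fun t ht => ?_⟩, Subtype.ext hzw⟩
        rw [Set.mem_singleton_iff] at ht
        subst ht
        by_contra hne
        refine hb₀a (hfree (z⁻¹ * (t * z * t⁻¹)) (U.mul_mem (U.inv_mem hzU) (hnorm _ hx's z hzU)) (fun e => hne ?_) b₀ ?_)
        · exact mul_inv_eq_iff_eq_mul.1 (inv_mul_eq_one.1 e).symm
        · have ht' : t⁻¹ • b₀ = b₀ := by rw [inv_smul_eq_iff, hb₀]
          rw [mul_smul, mul_smul, mul_smul, ht', hzw, show t • (w : X) = w from w.2.1, ← hzw, inv_smul_smul]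
    have hC : Nat.card C ∣ 27 := hUc ▸ Subgroup.card_dvd_of_le inf_le_left
    have htot : {w : X | x' • w = w}.ncard = Nat.card C + 1 := by
      rw [hCA, Set.ncard_sdiff_singleton_add_one (show a ∈ {w : X | x' • w = w} from hx's)]
    rw [htot] at hA7
    obtain ⟨k, hk, hk'⟩ := (Nat.dvd_prime_pow (m := 3) Nat.prime_three).1 (by simpa using hC)
    rw [← Nat.card_eq_fintype_card] at hk'
    rw [hk'] at hA7
    have hk3 : k = 3 := by interval_cases k <;> first | rfl | exact absurd hA7 (by decide)
    subst hk3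
    obtain ⟨z, hzU, hzx⟩ := hc x' hx's hx'U
    have hCU : C = U := Subgroup.eq_of_le_of_card_ge inf_le_left (by rw [hk', hUc]; norm_num)
    exact hzx (Subgroup.mem_centralizer_iff.1 ((hCU ▸ hzU : z ∈ C)).2 x' rfl)
  · -- too many elements of order seven
    have hs27 : Nat.card (stabilizer G a) = 27 * (Nat.card (stabilizer G a) / 27) := by
      rcases hs with h | h <;> rw [h]
    set r := Nat.card (stabilizer G a) / 27 with hr
    have hn7 : Nat.card (Sylow 7 G) * Nat.card (Subgroup.normalizer (P : Set G)) = 28 * (27 * r) := by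
      rw [Sylow.card_eq_index_normalizer P, mul_comm, Subgroup.card_mul_index, hG, hs27]
    have hmod : Nat.card (Sylow 7 G) % 7 = 1 := card_sylow_modEq_one 7 G
    have hr13 : r = 1 ∧ 36 ≤ Nat.card (Sylow 7 G) ∨ r = 3 ∧ 162 ≤ Nat.card (Sylow 7 G) := by
      obtain ⟨n, hn⟩ : ∃ n, n = Nat.card (Sylow 7 G) := ⟨_, rfl⟩
      obtain ⟨N, hN⟩ : ∃ N, N = Nat.card (Subgroup.normalizer (P : Set G)) := ⟨_, rfl⟩
      rw [← hn, ← hN] at hn7
      rw [← hN] at h9
      rw [← hn] at hmod ⊢
      have h7N : 7 ∣ N := by
        rw [hN]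
        have h := Subgroup.card_dvd_of_le (P : Subgroup G).le_normalizer
        rwa [hP P] at h
      obtain ⟨N', rfl⟩ := h7N
      have e : n * N' = 4 * (27 * r) := by linarith
      rcases hs with h | h <;> rw [h] at hr <;> norm_num at hr <;> rw [hr] at e ⊢
      · left
        refine ⟨rfl, ?_⟩
        have hn' : n ∣ 108 := ⟨N', by omega⟩
        have := Nat.le_of_dvd (by norm_num) hn'
        interval_cases n <;> omega
      · right
        refine ⟨rfl, ?_⟩
        have hn' : n ∣ 324 := ⟨N', by omega⟩
        have := Nat.le_of_dvd (by norm_num) hn'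
        interval_cases n <;> omega
    -- counting fixed points
    let fx : G → ℕ := fun g => (Finset.univ.filter fun b : X => g • b = b).card
    have hburn : ∑ g, fx g = Fintype.card G := by
      have h := sum_card_fixedBy_eq_card_orbits_mul_card_group G X
      have h1 : Fintype.card (orbitRel.Quotient G X) = 1 := by
        rw [Fintype.card_eq_one_iff]
        refine ⟨Quotient.mk'' a, fun w => ?_⟩
        induction w using Quotient.inductionOn' with
        | h b => exact Quotient.sound' (htr b)
      rw [h1, one_mul] at h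
      rw [← h]
      exact Finset.sum_congr rfl fun g _ => by
        simp only [fx, Fintype.card_subtype, mem_fixedBy]
    have hpairs : ∑ g, fx g * (fx g - 1) ≤ 756 * r := by
      have hswap : ∑ g, fx g * (fx g - 1) = ∑ p ∈ (Finset.univ : Finset X).offDiag,
          (Finset.univ.filter fun g : G => g • p.1 = p.1 ∧ g • p.2 = p.2).card := by
        simp only [Finset.card_filter]
        rw [Finset.sum_comm]
        refine Finset.sum_congr rfl fun g _ => ?_
        rw [← Finset.card_filter]
        have e := Finset.offDiag_card (s := Finset.univ.filter fun b : X => g • b = b)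
        rw [← Nat.mul_sub_one] at e
        refine e.symm.trans (congrArg Finset.card ?_)
        ext ⟨b, b'⟩
        simp [and_comm]
        tauto
      rw [hswap]
      refine (Finset.sum_le_card_nsmul _ _ r fun p hp => ?_).trans (le_of_eq ?_)
      · rw [Finset.mem_offDiag] at hp
        obtain ⟨g, hg⟩ := htr p.1
        have hne : g⁻¹ • p.2 ≠ a := fun e => hp.2.2 (by rw [← hg]; exact (inv_smul_eq_iff.1 e).symm)
        rw [← Fintype.card_subtype, ← Nat.card_eq_fintype_card]
        let ψ : {k : G // k • p.1 = p.1 ∧ k • p.2 = p.2} × U → stabilizer G a := fun t =>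
          ⟨g⁻¹ * t.1.1 * g * t.2.1, mul_mem (by
            rw [mem_stabilizer_iff, mul_smul, mul_smul, show g • a = p.1 from hg, t.1.2.1, ← hg, inv_smul_smul])
            (hU t.2.2)⟩
        have hinj : Function.Injective ψ := by
          rintro ⟨⟨k, hk⟩, z⟩ ⟨⟨k', hk'⟩, z'⟩ e
          have e' : g⁻¹ * k * g * (z : G) = g⁻¹ * k' * g * z' := congrArg Subtype.val e
          have e1 : (z : G) * (z' : G)⁻¹ = g⁻¹ * (k⁻¹ * k') * g := by
            rw [mul_inv_eq_iff_eq_mul]
            calc (z : G) = (g⁻¹ * k * g)⁻¹ * (g⁻¹ * k * g * z) := (inv_mul_cancel_left _ _).symm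
              _ = _ := by rw [e']; group
          have hk1 : k'  • p.2 = p.2 := hk'.2
          have hk2 : k⁻¹ • p.2 = p.2 := by rw [inv_smul_eq_iff, hk.2]
          have hz : (z : G) * (z' : G)⁻¹ = 1 := by
            by_contra hne'
            refine hne (hfree _ (U.mul_mem z.2 (U.inv_mem z'.2)) hne' _ ?_)
            rw [e1, mul_smul, smul_inv_smul, mul_smul, mul_smul, hk1, hk2]
          obtain rfl : z = z' := Subtype.ext (mul_inv_eq_one.1 hz)
          have : g⁻¹ * (k⁻¹ * k') * g = 1 := by rw [← e1, hz]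
          have hkk : k = k' := by
            rw [mul_assoc, inv_mul_eq_one, eq_comm, mul_eq_right, inv_mul_eq_one] at this
            exact this
          subst hkk
          rfl
        have h := Nat.card_le_card_of_injective ψ hinj
        rw [Nat.card_prod, hUc, hs27] at h
        omega
      · rw [Finset.offDiag_card, Finset.card_univ, ← Nat.card_eq_fintype_card, hX]
        simp
    have hone : fx 1 = 28 := by simp [fx, ← Nat.card_eq_fintype_card, hX]
    have hbound : 2 * (Finset.univ.filter fun g => fx g = 0).card + 756 ≤ 54 + 756 * r := by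
      have key : ∀ g ∈ (Finset.univ : Finset G).erase 1,
          2 * (if fx g = 0 then 1 else 0) + 2 * fx g ≤ 2 + fx g * (fx g - 1) := by
        intro g _
        rcases h : fx g with _ | _ | n
        · simp
        · simp
        · simp only [Nat.succ_sub_one, if_neg (Nat.succ_ne_zero _)]
          nlinarith
      have h := Finset.sum_le_sum key
      rw [Finset.sum_add_distrib, Finset.sum_add_distrib, Finset.sum_const, ← Finset.mul_sum, ← Finset.mul_sum,
        Finset.card_erase_of_mem (Finset.mem_univ _), Finset.card_univ, smul_eq_mul] at h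
      have e1 := Finset.add_sum_erase _ fx (Finset.mem_univ (1 : G))
      have e2 := Finset.add_sum_erase _ (fun g => fx g * (fx g - 1)) (Finset.mem_univ (1 : G))
      have e3 := Finset.add_sum_erase _ (fun g => if fx g = 0 then 1 else 0) (Finset.mem_univ (1 : G))
      rw [hone] at e1 e2 e3
      simp only [show (28 : ℕ) ≠ 0 by norm_num, if_false, zero_add] at e3
      rw [Finset.card_filter]
      have := Fintype.card_pos (α := G)
      omega
    have hlow : 6 * Nat.card (Sylow 7 G) ≤ (Finset.univ.filter fun g => fx g = 0).card := by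
      let ψ : (Σ P : Sylow 7 G, ↥(((P : Subgroup G) : Set G) \ {1})) → {g : G // fx g = 0} := fun t =>
        ⟨t.2.1, by
          have hy7 : orderOf t.2.1 = 7 := orderOf_eq_prime (by
            have := Subgroup.orderOf_dvd_natCard (s := (t.1 : Subgroup G)) t.2.2.1
            rw [hP] at this
            exact orderOf_dvd_iff_pow_eq_one.1 this) t.2.2.2
          simp only [fx, Finset.card_eq_zero, Finset.filter_eq_empty_iff]
          exact fun b _ => h7fix _ hy7 b⟩
      have hinj : Function.Injective ψ := by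
        rintro ⟨P₁, y₁, hy₁, hy₁'⟩ ⟨P₂, y₂, hy₂, hy₂'⟩ e
        obtain rfl : y₁ = y₂ := congrArg Subtype.val e
        have hgen : ∀ P : Sylow 7 G, y₁ ∈ (P : Subgroup G) → (P : Subgroup G) = Subgroup.zpowers y₁ := by
          intro P hy
          refine (Subgroup.eq_of_le_of_card_ge (Subgroup.zpowers_le.2 hy) ?_).symm
          have h := Subgroup.orderOf_dvd_natCard (s := (P : Subgroup G)) hy
          rw [hP] at h ⊢
          rw [Nat.card_zpowers, ((Nat.dvd_prime (by norm_num)).1 h).resolve_left fun h1 =>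
            hy₁' (orderOf_eq_one_iff.1 h1)]
        obtain rfl : P₁ = P₂ := Sylow.ext ((hgen _ hy₁).trans (hgen _ hy₂).symm)
        rfl
      have h := Nat.card_le_card_of_injective ψ hinj
      rw [Nat.card_sigma, Finset.sum_congr rfl (g := fun _ => 6) fun P _ => by
        rw [Nat.card_coe_set_eq, Set.ncard_sdiff_singleton_of_mem (one_mem _), ← Nat.card_coe_set_eq,
          SetLike.coe_sort_coe, hP], Finset.sum_const, Finset.card_univ, smul_eq_mul,
        Nat.card_eq_fintype_card, Fintype.card_subtype] at h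
      rw [Nat.card_eq_fintype_card]
      omega
    rcases hr13 with ⟨h1, h2⟩ | ⟨h1, h2⟩ <;> rw [h1] at hbound <;> omega

end CfsgLib.OrthExtThree
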