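import Mathlib

/-!
# The possible numbers of members through a subspace
-/

set_option autoImplicit false

namespace CfsgLib.OrthExtThree

theorem natAbs_dvd_of_comb {n f c : ℤ} {d : ℕ} (hn : (d : ℤ) ∣ n) (hf : (d : ℤ) ∣ f) (a b : ℤ)
    (h : c = a * n + b * f) : d ∣ c.natAbs :=
  Int.natCast_dvd.1 (h ▸ dvd_add (hn.mul_left a) (hf.mul_left b))

theorem gcd_pow_three {n a c : ℕ} (h : Nat.gcd n a ∣ c) : Nat.gcd n (a ^ 3) ∣ c ^ 3 := by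
  rw [pow_succ, pow_two, pow_succ, pow_two]
  exact (Nat.gcd_mul_right_dvd_mul_gcd _ _ _).trans (mul_dvd_mul
    ((Nat.gcd_mul_right_dvd_mul_gcd _ _ _).trans (mul_dvd_mul h h)) h)

set_option maxRecDepth 8000 in
theorem finite_check : ∀ i : Fin 6, ∀ q : Fin 500, 7 ≤ (q : ℕ) → 1 ≤ (i : ℕ) →
    ((i : ℕ) * (q : ℕ) ^ 3 * ((q : ℕ) - 1)) % 4 = 0 →
    (2 * (((q : ℕ) ^ 2 - 1) * ((q : ℕ) ^ 4 - 1) * ((q : ℕ) ^ 6 - 1))) %
      (1 + (i : ℕ) * (q : ℕ) ^ 3 * ((q : ℕ) - 1) / 4) ≠ 0 := by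
  decide +kernel

/-- Few possibilities remain. -/
theorem degree_cases {q k : ℕ} (hq : 3 ≤ q) (hodd : Odd q) (hk : 1 < k) (hmod : q ^ 3 ∣ k - 1)
    (htor : q ^ 3 * (q - 1) ∣ 4 * (k - 1)) (hb : k * (q - 1) ≤ q ^ 5)
    (hdvd : k ∣ 2 * q ^ 16 * ((q ^ 2 - 1) * (q ^ 4 - 1) * (q ^ 6 - 1))) :
    q = 3 ∧ k = 28 ∨ q = 5 ∧ k = 126 := by
  obtain ⟨j, hj⟩ : ∃ j, k = j + 1 := ⟨k - 1, by omega⟩
  subst hj
  rw [Nat.add_sub_cancel] at hmod htor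
  have hcop : Nat.Coprime (j + 1) q := by
    refine Nat.Coprime.coprime_dvd_right (dvd_pow_self q (n := 3) (by norm_num)) ?_
    obtain ⟨m, rfl⟩ := hmod
    rw [Nat.coprime_comm]
    exact (Nat.coprime_mul_left_add_right _ _ _).2 (Nat.coprime_one_right _)
  have hd' : j + 1 ∣ 2 * ((q ^ 2 - 1) * (q ^ 4 - 1) * (q ^ 6 - 1)) := by
    refine (Nat.Coprime.pow_right 16 hcop).dvd_of_dvd_mul_left ?_
    rwa [← mul_assoc, mul_comm (q ^ 16) 2]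
  obtain ⟨m, rfl⟩ := hmod
  by_cases h7 : q < 7
  · obtain rfl | rfl : q = 3 ∨ q = 5 := by obtain ⟨t, rfl⟩ := hodd; omega
    · have hm : m ≤ 4 := by norm_num at hb; omega
      norm_num at hd'
      interval_cases m <;> omega
    · have hm : m ≤ 7 := by norm_num at hb; omega
      norm_num at hd'
      interval_cases m <;> omega
  push Not at h7
  exfalso
  obtain ⟨i, hi⟩ := htor
  have hi1 : 1 ≤ i := by
    by_contra h
    obtain rfl : i = 0 := by omega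
    have hm : q ^ 3 * m ≠ 0 := by omega
    exact hm (by omega)
  have hi5 : i ≤ 5 := by
    have h1 : q ^ 3 * (q - 1) * i * (q - 1) < 4 * q ^ 5 := by
      rw [← hi]
      calc 4 * (q ^ 3 * m) * (q - 1) < 4 * ((q ^ 3 * m + 1) * (q - 1)) := by
            rw [mul_assoc]; exact Nat.mul_lt_mul_of_pos_left
              (Nat.mul_lt_mul_of_pos_right (Nat.lt_succ_self _) (by omega)) (by norm_num)
        _ ≤ 4 * q ^ 5 := Nat.mul_le_mul_left 4 hb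
    obtain ⟨t, rfl⟩ : ∃ t, q = t + 7 := ⟨q - 7, by omega⟩
    simp only [show t + 7 - 1 = t + 6 by omega] at h1
    by_contra h
    have h2 : (t + 7) ^ 3 * (t + 6) * 6 * (t + 6) ≤ (t + 7) ^ 3 * (t + 6) * i * (t + 6) := by
      gcongr; omega
    have h3 : 4 * (t + 7) ^ 5 ≤ (t + 7) ^ 3 * (t + 6) * 6 * (t + 6) := by
      have : 4 * (t + 7) ^ 2 ≤ 6 * (t + 6) ^ 2 := by nlinarith
      calc 4 * (t + 7) ^ 5 = (t + 7) ^ 3 * (4 * (t + 7) ^ 2) := by ring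
        _ ≤ (t + 7) ^ 3 * (6 * (t + 6) ^ 2) := Nat.mul_le_mul_left _ this
        _ = _ := by ring
    omega
  by_cases hq500 : q < 500
  · refine finite_check ⟨i, by omega⟩ ⟨q, hq500⟩ h7 hi1 ?_ ?_
    · show i * q ^ 3 * (q - 1) % 4 = 0
      rw [show i * q ^ 3 * (q - 1) = q ^ 3 * (q - 1) * i by ring, ← hi]
      omega
    · show _ % (1 + i * q ^ 3 * (q - 1) / 4) = 0
      rw [show i * q ^ 3 * (q - 1) = q ^ 3 * (q - 1) * i by ring, ← hi, Nat.mul_div_cancel_left _ (by norm_num),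
        add_comm]
      exact Nat.mod_eq_zero_of_dvd hd'
  push Not at hq500
  -- large fields
  obtain ⟨N, hN⟩ : ∃ N, N = 4 * (q ^ 3 * m + 1) := ⟨_, rfl⟩
  obtain ⟨t, rfl⟩ : ∃ t, q = t + 1 := ⟨q - 1, by omega⟩
  simp only [Nat.add_sub_cancel] at hi
  have hNz : (N : ℤ) = 4 + i * ((t : ℤ) + 1) ^ 3 * t := by
    have e : N = 4 + i * (t + 1) ^ 3 * t := by
      rw [hN]; linarith [hi]
    rw [e]; push_cast; ring
  have g1 : Nat.gcd N t ∣ 4 := by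
    have := natAbs_dvd_of_comb (Int.natCast_dvd_natCast.2 (Nat.gcd_dvd_left N t))
      (Int.natCast_dvd_natCast.2 (Nat.gcd_dvd_right N t)) 1 (-(i * ((t : ℤ) + 1) ^ 3)) (c := 4) (by rw [hNz]; ring)
    simpa using this
  have g2 : Nat.gcd N (t + 2) ∣ 4 + 2 * i := by
    have := natAbs_dvd_of_comb (Int.natCast_dvd_natCast.2 (Nat.gcd_dvd_left N (t + 2)))
      (Int.natCast_dvd_natCast.2 (Nat.gcd_dvd_right N (t + 2))) 1
      (-((i : ℤ) * (((t : ℤ) + 1) ^ 3 - 2 * ((t : ℤ) + 1) ^ 2 + 2 * ((t : ℤ) + 1) - 2))) (c := ((4 + 2 * i : ℕ) : ℤ))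
      (by rw [hNz]; push_cast; ring)
    rwa [Int.natAbs_natCast] at this
  have g3 : Nat.gcd N ((t + 1) ^ 2 + 1) ∣ (4 + i) ^ 2 + i ^ 2 := by
    have := natAbs_dvd_of_comb (Int.natCast_dvd_natCast.2 (Nat.gcd_dvd_left N ((t + 1) ^ 2 + 1)))
      (Int.natCast_dvd_natCast.2 (Nat.gcd_dvd_right N ((t + 1) ^ 2 + 1))) (4 + i - i * ((t : ℤ) + 1))
      ((i : ℤ) ^ 2 - i * (((t : ℤ) + 1) ^ 2 - ((t : ℤ) + 1) - 1) * (4 + i - i * ((t : ℤ) + 1)))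
      (c := (((4 + i) ^ 2 + i ^ 2 : ℕ) : ℤ)) (by rw [hNz]; push_cast; ring)
    rwa [Int.natAbs_natCast] at this
  have g4 : Nat.gcd N ((t + 1) ^ 2 + (t + 1) + 1) ∣ (3 * (i : ℤ) ^ 2 - 12 * i + 16).natAbs :=
    natAbs_dvd_of_comb (Int.natCast_dvd_natCast.2 (Nat.gcd_dvd_left N _))
      (Int.natCast_dvd_natCast.2 (Nat.gcd_dvd_right N _)) (4 - 2 * i - i * ((t : ℤ) + 1))
      ((i : ℤ) ^ 2 - i * (t : ℤ) ^ 2 * (4 - 2 * i - i * ((t : ℤ) + 1))) (by rw [hNz]; push_cast; ring)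
  have g5 : Nat.gcd N (t ^ 2 + t + 1) ∣ i ^ 2 + 4 * i + 16 := by
    have := natAbs_dvd_of_comb (Int.natCast_dvd_natCast.2 (Nat.gcd_dvd_left N (t ^ 2 + t + 1)))
      (Int.natCast_dvd_natCast.2 (Nat.gcd_dvd_right N (t ^ 2 + t + 1))) (4 + i * ((t : ℤ) + 1))
      ((i : ℤ) ^ 2 - i * (t : ℤ) * ((t : ℤ) + 2) * (4 + i * ((t : ℤ) + 1)))
      (c := ((i ^ 2 + 4 * i + 16 : ℕ) : ℤ)) (by rw [hNz]; push_cast; ring)
    rwa [Int.natAbs_natCast] at this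
  obtain ⟨A, hA⟩ : ∃ A, A = t ^ 3 * (t + 2) ^ 3 * ((t + 1) ^ 2 + 1) * ((t + 1) ^ 2 + (t + 1) + 1) *
      (t ^ 2 + t + 1) := ⟨_, rfl⟩
  have hA' : ((t + 1) ^ 2 - 1) * ((t + 1) ^ 4 - 1) * ((t + 1) ^ 6 - 1) = A := by
    rw [show (t + 1) ^ 2 - 1 = t * (t + 2) by rw [Nat.sub_eq_iff_eq_add (Nat.one_le_pow _ _ (by omega))]; ring,
      show (t + 1) ^ 4 - 1 = t * (t + 2) * ((t + 1) ^ 2 + 1) by
        rw [Nat.sub_eq_iff_eq_add (Nat.one_le_pow _ _ (by omega))]; ring,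
      show (t + 1) ^ 6 - 1 = t * (t + 2) * ((t + 1) ^ 2 + (t + 1) + 1) * (t ^ 2 + t + 1) by
        rw [Nat.sub_eq_iff_eq_add (Nat.one_le_pow _ _ (by omega))]; ring, hA]
    ring
  rw [hA'] at hd'
  have hN8 : N ∣ 8 * A := by
    rw [hN, show 8 * A = 4 * (2 * A) by ring]
    exact mul_dvd_mul_left 4 hd'
  have hg : N ∣ 8 * (4 ^ 3 * (4 + 2 * i) ^ 3 * ((4 + i) ^ 2 + i ^ 2) *
      (3 * (i : ℤ) ^ 2 - 12 * i + 16).natAbs * (i ^ 2 + 4 * i + 16)) := by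
    have h1 : N ∣ 8 * Nat.gcd N A := (Nat.dvd_gcd (dvd_mul_left N 8) hN8).trans (by rw [Nat.gcd_mul_left])
    refine h1.trans (mul_dvd_mul_left 8 ?_)
    rw [hA]
    refine (Nat.gcd_mul_right_dvd_mul_gcd N _ _).trans (mul_dvd_mul ?_ g5)
    refine (Nat.gcd_mul_right_dvd_mul_gcd N _ _).trans (mul_dvd_mul ?_ g4)
    refine (Nat.gcd_mul_right_dvd_mul_gcd N _ _).trans (mul_dvd_mul ?_ g3)
    exact (Nat.gcd_mul_right_dvd_mul_gcd N _ _).trans (mul_dvd_mul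
      (gcd_pow_three g1)
      (gcd_pow_three g2))
  have hpos : 0 < 8 * (4 ^ 3 * (4 + 2 * i) ^ 3 * ((4 + i) ^ 2 + i ^ 2) *
      (3 * (i : ℤ) ^ 2 - 12 * i + 16).natAbs * (i ^ 2 + 4 * i + 16)) := by
    interval_cases i <;> norm_num
  have hle := Nat.le_of_dvd hpos hg
  have hlow : 499 * 500 ^ 3 * i ≤ N := by
    have e : N = 4 + i * ((t + 1) ^ 3 * t) := by rw [hN]; linarith [hi]
    have : 500 ^ 3 * 499 ≤ (t + 1) ^ 3 * t := by gcongr; omega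
    nlinarith
  interval_cases i <;> norm_num at hle <;> omega

end CfsgLib.OrthExtThree
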