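import Cfsg.Agent.OrthExtThree.Frame

/-!
# Conjugates of Eichler maps and of tori inside the normaliser of the field

`Fr.norm_of_conj_inU`, `Fr.norm_of_conj_scale`: a member of `M` carrying a non-trivial Eichler map, or a
scaling of `u` by `c` with `c² ≠ 1`, into the normaliser of the field normalises it.
-/

set_option autoImplicit false
set_option linter.unusedSectionVars false
set_option maxHeartbeats 1000000

namespace CfsgLib.OrthExtThree

open Matrix Module CfsgLib.Spinor CfsgLib.OrthMax CfsgLib.OrthExtR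

variable {F : Type*} [Field F] [Fintype F] {ι : Type} [Fintype ι] [DecidableEq ι]
  {Q : QuadraticForm F (ι → F)}
variable {K : Type*} [Field K] [Algebra F K] [Module K (ι → F)] [IsScalarTower F K (ι → F)]

/-- A subgroup of `Ω` strictly below it and above the normaliser of the field. -/
structure Over (K : Type*) [Field K] [Module K (ι → F)] (M : Subgroup (Isom Q)) : Prop where
  below : Below K M
  le : M ≤ Cfsg.Omega F ⇑Q
  nle : ¬ Cfsg.Omega F ⇑Q ≤ M

theorem lin_one : Lin K (1 : Isom Q) := fun k x => by rw [mulVec_one_apply, mulVec_one_apply]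

theorem lin_pow {g : Isom Q} (hg : Lin K g) : ∀ n : ℕ, Lin K (g ^ n)
  | 0 => by rw [pow_zero]; exact lin_one
  | n + 1 => by rw [pow_succ]; exact (lin_pow hg n).mul hg

theorem pow_scale {g : Isom Q} {a : K} {z : ι → F} (hg : Lin K g) (hz : mat Q g *ᵥ z = a • z) (n : ℕ) :
    mat Q (g ^ n) *ᵥ z = a ^ n • z := by
  induction n with
  | zero => rw [pow_zero, pow_zero, mulVec_one_apply, one_smul]
  | succ n ih => rw [pow_succ, mulVec_mul, hz, lin_pow hg n, ih, smul_smul, pow_succ']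

theorem norm_pow {g : Isom Q} (hg : Norm K g) : ∀ n : ℕ, Norm K (g ^ n)
  | 0 => by rw [pow_zero]; exact lin_one.norm
  | n + 1 => by rw [pow_succ]; exact (norm_pow hg n).mul hg

variable {c : Ext Q K}

theorem exists_twist (c : Ext Q K) {g : Isom Q} (hg : Norm K g) :
    ∃ σ : K ≃ₐ[F] K, ∀ (k : K) x, mat Q g *ᵥ (k • x) = σ k • (mat Q g *ᵥ x) := by
  have := c.finite
  choose σ hσ using hg
  obtain ⟨u, hu, -⟩ := c.exists_singular
  have hu' := mulVec_ne_zero g hu
  have hfun : ∀ k k', mat Q g *ᵥ (k • u) = k' • (mat Q g *ᵥ u) → σ k = k' := fun k k' e =>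
    smul_left_injective K hu' ((hσ k u).symm.trans e)
  let σh : K →ₐ[F] K :=
    { toFun := σ
      map_one' := hfun 1 1 (by rw [one_smul, one_smul])
      map_mul' := fun a b => hfun _ _ (by rw [mul_smul, hσ, hσ, mul_smul])
      map_zero' := hfun 0 0 (by rw [zero_smul, zero_smul, mulVec_zero])
      map_add' := fun a b => hfun _ _ (by rw [add_smul, mulVec_add, hσ, hσ, add_smul])
      commutes' := fun t => hfun _ _ (by rw [algebraMap_smul, algebraMap_smul, mulVec_smul]) }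
  exact ⟨AlgEquiv.ofBijective σh (Finite.injective_iff_bijective.1 σh.toRingHom.injective), hσ⟩

theorem twist_pow {g : Isom Q} {σ : K ≃ₐ[F] K}
    (hσ : ∀ (k : K) x, mat Q g *ᵥ (k • x) = σ k • (mat Q g *ᵥ x)) (n : ℕ) :
    ∀ (k : K) x, mat Q (g ^ n) *ᵥ (k • x) = (σ ^ n) k • (mat Q (g ^ n) *ᵥ x) := by
  induction n with
  | zero => intro k x; rw [pow_zero, mulVec_one_apply, mulVec_one_apply, pow_zero]; rfl
  | succ n ih =>
    intro k x
    rw [pow_succ, pow_succ, mulVec_mul, mulVec_mul, hσ, ih]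
    rfl

theorem aut_pow_three (c : Ext Q K) (σ : K ≃ₐ[F] K) : σ ^ 3 = 1 := AlgEquiv.ext fun x => by
  rw [pow_succ, pow_succ, pow_one]; exact c.aut_cube σ x

/-- A twist of order prime to three is trivial. -/
theorem lin_of_pow (c : Ext Q K) {g : Isom Q} (hg : Norm K g) {n : ℕ} (hn : ¬ 3 ∣ n)
    (h : Lin K (g ^ n)) : Lin K g := by
  obtain ⟨σ, hσ⟩ := exists_twist c hg
  obtain ⟨u, hu, -⟩ := c.exists_singular
  have h1 : σ ^ n = 1 := AlgEquiv.ext fun k => smul_left_injective K (mulVec_ne_zero (g ^ n) hu)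
    (show (σ ^ n) k • _ = _ • _ from (twist_pow hσ n k u).symm.trans (h k u))
  have h3 : σ = 1 := by
    have hco : Nat.Coprime n 3 := ((Nat.Prime.coprime_iff_not_dvd Nat.prime_three).2 hn).symm
    exact orderOf_eq_one_iff.1 (Nat.eq_one_of_dvd_coprimes hco (orderOf_dvd_of_pow_eq_one h1)
      (orderOf_dvd_of_pow_eq_one (aut_pow_three c σ)))
  intro k x
  rw [hσ, h3]
  rfl

/-- A twisted isometry twists the form. -/
theorem h_twist (c : Ext Q K) {g : Isom Q} {σ : K ≃ₐ[F] K}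
    (hσ : ∀ (k : K) x, mat Q g *ᵥ (k • x) = σ k • (mat Q g *ᵥ x)) (x z : ι → F) :
    c.h (mat Q g *ᵥ x) (mat Q g *ᵥ z) = σ (c.h x z) := by
  refine c.h_eq_of_trace fun l => ?_
  obtain ⟨k, rfl⟩ := σ.surjective l
  have := polar_mulVec Q g (k • x) z
  rw [hσ, c.tr, c.tr, LinearMap.map_smul₂, LinearMap.map_smul₂, smul_eq_mul, smul_eq_mul] at this
  rw [this, ← map_mul, Algebra.trace_eq_of_algEquiv]

/-- The fixed space of a twist of order three carries a frame with values in the ground field. -/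
theorem exists_fixed_frame (c : Ext Q K) (h3 : finrank K (ι → F) = 3) {y : Isom Q} {σ : K ≃ₐ[F] K}
    (hσ : ∀ (k : K) x, mat Q y *ᵥ (k • x) = σ k • (mat Q y *ᵥ x)) (hσ1 : σ ≠ 1) (hy : y ^ 3 = 1) :
    ∃ s t r, c.Pair s t ∧ c.Rest s t r ∧ c.h r r ≠ 0 ∧ σ (c.h r r) = c.h r r ∧
      mat Q y *ᵥ s = s ∧ mat Q y *ᵥ t = t ∧ mat Q y *ᵥ r = r := by
  classical
  have := c.finite
  have := c.fdF
  have := c.fdK
  have hy3 : ∀ x, mat Q y *ᵥ (mat Q y *ᵥ (mat Q y *ᵥ x)) = x := fun x => by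
    rw [← mulVec_mul, ← mulVec_mul, ← pow_two, ← pow_succ, hy, mulVec_one_apply]
  have hord : orderOf σ = 3 :=
    orderOf_eq_prime (hp := ⟨Nat.prime_three⟩) (aut_pow_three c σ) hσ1
  have hfix : ∀ k : K, σ k = k → k ∈ Set.range (algebraMap F K) := by
    intro k hk
    have hall : ∀ τ : K ≃ₐ[F] K, τ k = k := by
      intro τ
      have htop : Subgroup.zpowers σ = ⊤ := Subgroup.eq_top_of_card_eq _ (by
        rw [Nat.card_zpowers, hord, IsGalois.card_aut_eq_finrank, c.deg])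
      have hmem : τ ∈ Subgroup.zpowers σ := by rw [htop]; exact Subgroup.mem_top τ
      rw [mem_zpowers_iff_mem_range_orderOf, hord] at hmem
      obtain ⟨n, -, rfl⟩ := Finset.mem_image.1 hmem
      clear hmem htop
      induction n with
      | zero => rfl
      | succ n ih => rw [pow_succ, AlgEquiv.mul_apply, hk, ih]
    exact IntermediateField.mem_bot.1 ((IsGalois.mem_bot_iff_fixed k).2 hall)
  let W : Submodule F (ι → F) := LinearMap.eqLocus (Matrix.toLin' (mat Q y)) LinearMap.id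
  have hW : ∀ x, x ∈ W ↔ mat Q y *ᵥ x = x := fun x => by simp [W, LinearMap.mem_eqLocus]
  have hval : ∀ a ∈ W, ∀ b ∈ W, ∃ φ : F, algebraMap F K φ = c.h a b := fun a ha b hb => by
    refine hfix _ ?_
    rw [← h_twist c hσ, (hW a).1 ha, (hW b).1 hb]
  have hsep : ∀ z, (∀ w ∈ W, c.h z w = 0) → z = 0 := by
    intro z hzW
    refine c.h_sep fun x => ?_
    let χ : Fin 3 → (K →* K) := fun i => ((σ ^ (i : ℕ)).toAlgHom : K →ₐ[F] K).toRingHom.toMonoidHom
    have hinj : Function.Injective χ := fun i j e => Fin.ext (pow_injOn_Iio_orderOf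
      (by simp [hord, i.isLt]) (by simp [hord, j.isLt])
      (AlgEquiv.ext fun k => DFunLike.congr_fun e k))
    have hind := Fintype.linearIndependent_iff.1 ((linearIndependent_monoidHom K K).comp χ hinj)
      ![c.h z x, c.h z (mat Q y *ᵥ x), c.h z (mat Q y *ᵥ (mat Q y *ᵥ x))] ?_ 0
    · simpa using hind
    funext k
    have hmem : k • x + mat Q y *ᵥ (k • x) + mat Q y *ᵥ (mat Q y *ᵥ (k • x)) ∈ W := by
      rw [hW]
      simp only [mulVec_add, hy3]
      abel
    have h := hzW _ hmem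
    simp only [map_add, hσ, map_smul, smul_eq_mul] at h
    simp only [Fin.sum_univ_three, Pi.add_apply, Pi.smul_apply, Function.comp_apply, χ, smul_eq_mul,
      Matrix.cons_val_zero, Matrix.cons_val_one, Matrix.cons_val_two, Pi.zero_apply]
    simp [pow_two, - mulVec_mulVec]
    linear_combination h
  -- the form on the fixed space
  choose β hβ using fun a : W => fun b : W => hval a a.2 b b.2
  let B₀ : LinearMap.BilinForm F W := LinearMap.mk₂ F (fun a b => β a b)
    (fun a a' b => (algebraMap F K).injective (by simp [hβ]))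
    (fun t a b => (algebraMap F K).injective (by
      simp only [hβ, smul_eq_mul, map_mul, Submodule.coe_smul]
      rw [← algebraMap_smul K t (a : ι → F), LinearMap.map_smul₂, smul_eq_mul]))
    (fun a b b' => (algebraMap F K).injective (by simp [hβ]))
    (fun t a b => (algebraMap F K).injective (by
      simp only [hβ, smul_eq_mul, map_mul, Submodule.coe_smul]
      rw [← algebraMap_smul K t (b : ι → F), map_smul, smul_eq_mul]))
  let q : QuadraticForm F W := B₀.toQuadraticMap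
  have hq : ∀ a : W, algebraMap F K (q a) = c.h (a : ι → F) a := fun a => by
    rw [show q a = β a a from rfl, hβ]
  have hpolar : ∀ a b : W, algebraMap F K (QuadraticMap.polar (⇑q) a b) = 2 * c.h (a : ι → F) b :=
    fun a b => by
      simp only [QuadraticMap.polar, map_sub, hq, Submodule.coe_add, map_add, LinearMap.add_apply,
        c.symm (b : ι → F) a]
      ring
  have hsepq : ∀ a : W, (∀ b, QuadraticMap.polar (⇑q) a b = 0) → a = 0 := fun a ha =>
    Subtype.ext (hsep a fun b hb => (mul_eq_zero.1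
      ((hpolar a ⟨b, hb⟩).symm.trans (by rw [ha, map_zero]))).resolve_left c.two')
  have hdim : 3 ≤ finrank F W := by
    by_contra hlt
    let b := Module.finBasis F W
    let Φ : (ι → F) →ₗ[K] (Fin (finrank F W) → K) := LinearMap.pi fun i => c.h (b i : ι → F)
    have hker : LinearMap.ker Φ ≠ ⊥ := fun hb => by
      have := LinearMap.finrank_le_finrank_of_injective (LinearMap.ker_eq_bot.1 hb)
      rw [Module.finrank_fintype_fun_eq_card, Fintype.card_fin] at this
      omega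
    obtain ⟨z, hz, hz0⟩ := Submodule.exists_mem_ne_zero_of_ne_bot hker
    refine hz0 (c.h_sep fun x => ?_)
    have hzb : ∀ w ∈ W, c.h z w = 0 := fun w hw => by
      rw [c.symm]
      have e := b.sum_repr ⟨w, hw⟩
      have e' := congrArg (fun a : W => (a : ι → F)) e
      simp only [Submodule.coe_sum, Submodule.coe_smul] at e'
      rw [← e', map_sum, LinearMap.sum_apply]
      refine Finset.sum_eq_zero fun i _ => ?_
      rw [← algebraMap_smul K (b.repr ⟨w, hw⟩ i) (b i : ι → F), LinearMap.map_smul₂,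
        show c.h (b i : ι → F) z = 0 from congrFun (LinearMap.mem_ker.1 hz) i, smul_zero]
    rw [hsep z hzb, map_zero, LinearMap.zero_apply]
  obtain ⟨s₀, hs0, hqs⟩ := Forms.exists_quad_isotropic c.two q hsepq hdim
  set s : ι → F := (s₀ : ι → F) with hsdef
  have hsne : s ≠ 0 := fun e => hs0 (Subtype.ext e)
  have hsW := (hW _).1 s₀.2
  have hss : c.h s s = 0 := by rw [← hq, hqs, map_zero]
  obtain ⟨t₀, ht0, htu⟩ := Forms.exists_hyperbolic_partner q hsepq hs0 hqs
  have h2 := c.two'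
  obtain ⟨t, htdef⟩ : ∃ t : ι → F, t = (2 : K) • (t₀ : ι → F) := ⟨_, rfl⟩
  have htW : mat Q y *ᵥ t = t := by rw [htdef, hσ, (hW _).1 t₀.2, map_ofNat]
  have hst : c.h s t = 1 := by rw [htdef, map_smul, smul_eq_mul, ← hpolar, htu, map_one]
  have htt : c.h t t = 0 := by
    rw [htdef, LinearMap.map_smul₂, map_smul, ← hq, ht0, map_zero, smul_zero, smul_zero]
  have hp : c.Pair s t := ⟨hss, htt, hst⟩
  obtain ⟨z₀, hz₀, hzn⟩ : ∃ z₀ ∈ W, c.rest s t z₀ ≠ 0 := by
    by_contra! hno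
    obtain ⟨w, hw, hw0⟩ := hp.exists_rest
    refine hw0 (hsep w fun z hz => ?_)
    rw [c.decomp s t z, hno z hz]
    simp [c.symm w s, c.symm w t, hw.1, hw.2]
  set r := c.rest s t z₀ with hrdef
  have hrR : c.Rest s t r := hp.rest_spec z₀
  have hzW := (hW _).1 hz₀
  have hrW : mat Q y *ᵥ r = r := by
    have e : ∀ a, mat Q y *ᵥ a = a → σ (c.h a z₀) = c.h a z₀ := fun a ha => by
      rw [← h_twist c hσ, ha, hzW]
    rw [hrdef, Ext.rest, mulVec_sub, mulVec_sub, hσ, hσ, hzW, hsW, htW, e t htW, e s hsW]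
  have hrr : c.h r r ≠ 0 := fun e0 => hzn (by
    refine c.h_sep fun x => ?_
    have := c.fdK
    let b : Fin 3 → (ι → F) := ![s, t, r]
    have hli : LinearIndependent K b := by
      rw [Fintype.linearIndependent_iff]
      intro g hg
      simp only [Fin.sum_univ_three, b, Matrix.cons_val_zero, Matrix.cons_val_one, Matrix.cons_val_two] at hg
      have h1 := congrArg (c.h s) hg
      have h2 := congrArg (c.h t) hg
      simp [hss, htt, hst, hp.vu, hrR.1, hrR.2] at h1 h2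
      intro i
      fin_cases i
      · exact h2
      · exact h1
      · simpa [h1, h2, hzn] using hg
    have hspan := hli.span_eq_top_of_card_eq_finrank (by rw [Fintype.card_fin, h3])
    have hx : x ∈ Submodule.span K (Set.range b) := hspan ▸ Submodule.mem_top
    obtain ⟨g, rfl⟩ := (Submodule.mem_span_range_iff_exists_fun K).1 hx
    simp [Fin.sum_univ_three, b, c.symm r s, c.symm r t, hrR.1, hrR.2, e0])
  exact ⟨s, t, r, hp, hrR, hrr, by rw [← h_twist c hσ, hrW], hsW, htW, hrW⟩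

/-- An isometry is equivariant with the Eichler maps of fixed vectors. -/
theorem eK_twist (c : Ext Q K) {y : Isom Q} {σ : K ≃ₐ[F] K}
    (hσ : ∀ (k : K) x, mat Q y *ᵥ (k • x) = σ k • (mat Q y *ᵥ x)) {s r : ι → F}
    (hs : mat Q y *ᵥ s = s) (hr : mat Q y *ᵥ r = r) (x : ι → F) :
    mat Q y *ᵥ (c.eK s r x) = c.eK s r (mat Q y *ᵥ x) := by
  have e1 : σ (c.h s x) = c.h s (mat Q y *ᵥ x) := by rw [← h_twist c hσ, hs]
  have e2 : σ (c.h r x) = c.h r (mat Q y *ᵥ x) := by rw [← h_twist c hσ, hr]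
  have e3 : σ (c.q r) = c.q r := by rw [Ext.q, map_div₀, ← h_twist c hσ, hr, map_ofNat]
  simp only [Ext.eK_apply, mulVec_add, mulVec_sub, hσ, hs, hr, map_mul, e1, e2, e3]

theorem eK_pow {c : Ext Q K} {u w : ι → F} (hu : c.h u u = 0) (huw : c.h u w = 0) {g : Isom Q}
    (hg : ∀ x, mat Q g *ᵥ x = c.eK u w x) (n : ℕ) (x : ι → F) :
    mat Q (g ^ n) *ᵥ x = c.eK u ((n : K) • w) x := by
  induction n generalizing x with
  | zero => rw [pow_zero, mulVec_one_apply, Nat.cast_zero, zero_smul, Ext.eK_apply]; simp [Ext.q]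
  | succ n ih =>
    rw [pow_succ, mulVec_mul, ih, hg, c.eK_mul hu (by simp [huw]) huw, Nat.cast_succ, add_smul, one_smul]

theorem eK_pow_char {c : Ext Q K} (p : ℕ) [CharP F p] {u w : ι → F} (hu : c.h u u = 0) (huw : c.h u w = 0)
    {g : Isom Q} (hg : ∀ x, mat Q g *ᵥ x = c.eK u w x) : g ^ p = 1 := by
  have : CharP K p := charP_of_injective_algebraMap (algebraMap F K).injective p
  refine isom_ext fun x => ?_
  rw [eK_pow hu huw hg, CharP.cast_eq_zero, zero_smul, mulVec_one_apply, Ext.eK_apply]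
  simp [Ext.q]

theorem prime_cast_ne (c : Ext Q K) {p : ℕ} (hp : p.Prime) [CharP F p] : p ≠ 2 := fun h => by
  subst h
  exact c.two (CharP.cast_eq_zero F 2)

theorem not_two_dvd (c : Ext Q K) {p : ℕ} (hp : p.Prime) [CharP F p] : Nat.Coprime 2 p :=
  (Nat.coprime_primes Nat.prime_two hp).2 (prime_cast_ne c hp).symm

namespace Fr

variable (f : Fr c) {M : Subgroup (Isom Q)}
include f

/-- The members fixing `u` and commuting with the field. -/
def InU (g : Isom Q) : Prop := Lin K g ∧ mat Q g *ᵥ f.u = f.u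

theorem inU_spec {g : Isom Q} (hgΩ : g ∈ Cfsg.Omega F ⇑Q) (hg : f.InU g) :
    ∃ s : K, (∀ x, mat Q g *ᵥ x = c.eK f.u (s • f.e) x) ∧ (g ≠ 1 → s ≠ 0) := by
  obtain ⟨s, hs⟩ := f.inU_eq hgΩ hg.1 hg.2
  exact ⟨s, hs, fun hne h0 => hne (isom_ext fun x => by rw [hs, h0, f.eK_zero, mulVec_one_apply])⟩

theorem inU_pow_char (p : ℕ) [CharP F p] {g : Isom Q} (hgΩ : g ∈ Cfsg.Omega F ⇑Q) (hg : f.InU g) :
    g ^ p = 1 := by
  obtain ⟨s, hs, -⟩ := f.inU_spec hgΩ hg
  exact eK_pow_char p f.huu (by simp [f.hue]) hs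

theorem fixed_of_inU {g : Isom Q} (hgΩ : g ∈ Cfsg.Omega F ⇑Q) (hg : f.InU g) (hg1 : g ≠ 1) {z : ι → F}
    (hz : mat Q g *ᵥ z = z) : ∃ k : K, z = k • f.u := by
  obtain ⟨s, hs, hs0⟩ := f.inU_spec hgΩ hg
  exact f.fixed_inU (hs0 hg1) hs hz

/-- The eigenvectors of a scaling of `u`. -/
theorem eigen_scale {g : Isom Q} (hgΩ : g ∈ Cfsg.Omega F ⇑Q) (hg : Lin K g) {γ : K}
    (hgu : mat Q g *ᵥ f.u = γ • f.u) (hγ : γ * γ ≠ 1) {z : ι → F} (hz : mat Q g *ᵥ z = γ • z) :
    ∃ k : K, z = k • f.u := by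
  obtain ⟨r, hr⟩ := f.lin_line hgΩ hg hgu
  have h1 : c.h f.u z = 0 := by
    have := c.h_map hg f.u z
    rw [hgu, hz, LinearMap.map_smul₂, map_smul, smul_eq_mul, smul_eq_mul] at this
    by_contra h
    exact hγ (mul_right_cancel₀ h (by linear_combination this))
  refine ⟨c.h f.v z, ?_⟩
  have e := f.expand z
  rw [h1, zero_smul, add_zero] at e
  generalize c.h f.v z = a at e
  generalize c.h f.e z / c.h f.e f.e = b at e
  subst e
  rw [mulVec_add, hg, hg, hgu, hr] at hz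
  have h2 := congrArg (c.h f.e) hz
  simp [f.heu] at h2
  have hb : b = 0 := by
    have hγ1 : γ ≠ 1 := fun h => hγ (by rw [h, one_mul])
    have : b * c.h f.e f.e * (1 - γ) = 0 := by linear_combination h2
    exact (mul_eq_zero.1 ((mul_eq_zero.1 this).resolve_right (sub_ne_zero.2 hγ1.symm))).resolve_right f.ne
  rw [hb, zero_smul, add_zero]

/-- The line rule for a member whose conjugate commutes with the field. -/
theorem norm_of_conj_lin (ov : Over K M) {g φ : Isom Q} (hφ : φ ∈ M) (γ : F)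
    (hgu : mat Q g *ᵥ f.u = γ • f.u) (hfix : ∀ z, mat Q g *ᵥ z = γ • z → ∃ k : K, z = k • f.u)
    (hy : Lin K (φ⁻¹ * g * φ)) : Norm K φ := by
  obtain ⟨z₀, hz₀⟩ : ∃ z₀, z₀ = mat Q φ⁻¹ *ᵥ f.u := ⟨_, rfl⟩
  have hyz : mat Q (φ⁻¹ * g * φ) *ᵥ z₀ = γ • z₀ := by
    rw [hz₀, mulVec_mul, mulVec_mul, mulVec_inv_cancel, hgu, mulVec_smul]
  have hline : ∀ k : K, ∃ l : K, mat Q φ *ᵥ (k • z₀) = l • f.u := fun k => hfix _ (by
    have e := hy k z₀
    rw [hyz, smul_comm k γ, mulVec_mul, mulVec_mul] at e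
    rw [← mulVec_inv_cancel φ (mat Q g *ᵥ (mat Q φ *ᵥ (k • z₀))), e, mulVec_smul])
  have hQ : ∀ k : K, Q (k • z₀) = 0 := fun k => by
    obtain ⟨l, hl⟩ := hline k
    rw [← quad_mulVec Q φ (k • z₀), hl]
    exact c.quad_zero (by simp [f.huu])
  have hzz : c.h z₀ z₀ = 0 := c.h_eq_zero_of_polar fun k => by
    rw [QuadraticMap.polar, hQ, show k • z₀ + z₀ = (k + 1) • z₀ by rw [add_smul, one_smul], hQ,
      show Q z₀ = 0 by simpa using hQ 1, sub_zero, sub_zero]
  exact c.norm_of_line ov.below ov.le ov.nle hφ hzz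
    (by rw [hz₀]; exact mulVec_ne_zero _ f.u_ne) f.huu hline

/-- Members keeping the line of `u` normalise the field. -/
theorem norm_of_keep (ov : Over K M) {g : Isom Q} (hg : g ∈ M)
    (hline : ∀ k : K, ∃ l : K, mat Q g *ᵥ (k • f.u) = l • f.u) : Norm K g :=
  c.norm_of_line ov.below ov.le ov.nle hg f.huu f.u_ne f.huu hline

/-- A member carrying a non-trivial Eichler map into the normaliser normalises the field. -/
theorem norm_of_conj_inU (ov : Over K M) {x φ : Isom Q} (hx : x ∈ M) (hxU : f.InU x) (hx1 : x ≠ 1)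
    (hφ : φ ∈ M) (hy : Norm K (φ⁻¹ * x * φ)) : Norm K φ := by
  classical
  obtain ⟨p, hchar⟩ := CharP.exists F
  have hp : p.Prime := (CharP.char_is_prime_or_zero F p).resolve_right (CharP.char_ne_zero_of_finite F p)
  have hxΩ := ov.le hx
  have hfix := fun z (hz : mat Q x *ᵥ z = z) => f.fixed_of_inU hxΩ hxU hx1 hz
  by_cases hlin : Lin K (φ⁻¹ * x * φ)
  · exact f.norm_of_conj_lin ov hφ 1 (by rw [one_smul, hxU.2]) (fun z hz => hfix z (by rwa [one_smul] at hz)) hlin
  exfalso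
  obtain ⟨y, hydef⟩ : ∃ y, y = φ⁻¹ * x * φ := ⟨_, rfl⟩
  rw [← hydef] at hy hlin
  have hxp := f.inU_pow_char p hxΩ hxU
  have hyp : y ^ p = 1 := by
    rw [hydef, show φ⁻¹ * x * φ = φ⁻¹ * x * φ⁻¹⁻¹ by rw [inv_inv], conj_pow, hxp, mul_one, mul_inv_cancel]
  have hp3 : p = 3 := by
    by_contra hne
    exact hlin (lin_of_pow c hy (fun hd => hne ((Nat.prime_dvd_prime_iff_eq Nat.prime_three hp).1 hd).symm)
      (by rw [hyp]; exact lin_one))
  subst hp3
  obtain ⟨σ, hσ⟩ := exists_twist c hy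
  have hσ1 : σ ≠ 1 := fun h => hlin fun k z => by rw [hσ, h]; rfl
  obtain ⟨s, t, r, hpr, hR, hrr, hσd, hs, ht, hr⟩ := exists_fixed_frame c f.dim3 hσ hσ1 hyp
  obtain ⟨d, hd⟩ : ∃ d, d = c.h r r := ⟨_, rfl⟩
  obtain ⟨a, ha⟩ : ∃ a, a = s + (d / 2) • t := ⟨_, rfl⟩
  have h2 := c.two'
  have haa : c.h a a = d := by
    simp [ha, hpr.1, hpr.2.1, hpr.2.2, hpr.vu]
    field_simp
    ring
  have har : c.h a r = 0 := by simp [ha, hR.1, hR.2]
  have hra : c.h r a = 0 := by rw [c.symm, har]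
  have hd0 : d ≠ 0 := hd ▸ hrr
  have hdd : σ d = d := hd ▸ hσd
  have hσa : mat Q y *ᵥ a = a := by
    rw [ha, mulVec_add, hσ, hs, ht, map_div₀, hdd, map_ofNat]
  let ρ : (ι → F) →ₗ[K] (ι → F) :=
    LinearMap.id + (d⁻¹ • c.h a).smulRight (r - a) + (d⁻¹ • c.h r).smulRight (-a - r)
  have hρ : ∀ z, ρ z = z + (d⁻¹ * c.h a z) • (r - a) + (d⁻¹ * c.h r z) • (-a - r) := fun z => rfl
  have hρh : ∀ z z', c.h (ρ z) (ρ z') = c.h z z' := fun z z' => by
    simp only [hρ, map_add, map_sub, map_neg, map_smul, LinearMap.add_apply, LinearMap.sub_apply,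
      LinearMap.neg_apply, LinearMap.smul_apply, smul_eq_mul, haa, har, hra, ← hd, c.symm z a, c.symm z r]
    field_simp
    ring
  obtain ⟨g, hg⟩ := c.exists_isom ρ hρh
  have hglin : Lin K g := fun k z => by rw [hg, hg, map_smul]
  obtain ⟨j, hj⟩ : ∃ j, j = g * g := ⟨_, rfl⟩
  have hjM : j ∈ M := hj ▸ c.sq_mem ov.below hglin
  have hjlin : Lin K j := hj ▸ hglin.mul hglin
  have hjz : ∀ z, mat Q j *ᵥ z = z - (2 * d⁻¹ * c.h a z) • a - (2 * d⁻¹ * c.h r z) • r := fun z => by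
    rw [hj, mulVec_mul, hg, hg]
    simp only [hρ, map_add, map_sub, map_neg, map_smul, smul_eq_mul, haa, har, hra, ← hd]
    match_scalars <;> field_simp <;> ring
  have hjj : j * j = 1 := isom_ext fun z => by
    rw [mulVec_mul, hjz, hjz, mulVec_one_apply]
    simp only [map_sub, map_smul, smul_eq_mul, haa, har, hra, ← hd]
    match_scalars <;> field_simp <;> ring
  have hj1 : j ≠ 1 := fun h => by
    have e := congrArg (c.h a) (hjz a)
    rw [h, mulVec_one_apply] at e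
    simp [haa, hra, inv_mul_cancel₀ hd0, mul_assoc] at e
    exact mul_ne_zero c.two' hd0 (by linear_combination e)
  have hcomm : ∀ z, mat Q y *ᵥ (mat Q j *ᵥ z) = mat Q j *ᵥ (mat Q y *ᵥ z) := fun z => by
    have e1 : σ (c.h a z) = c.h a (mat Q y *ᵥ z) := by rw [← h_twist c hσ, hσa]
    have e2 : σ (c.h r z) = c.h r (mat Q y *ᵥ z) := by rw [← h_twist c hσ, hr]
    simp only [hjz, mulVec_sub, hσ, hσa, hr, map_mul, map_inv₀, map_ofNat, hdd, e1, e2]
  have hyj : y * j = j * y := isom_ext fun z => by rw [mulVec_mul, mulVec_mul, hcomm]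
  obtain ⟨j', hj'⟩ : ∃ j', j' = φ * j * φ⁻¹ := ⟨_, rfl⟩
  have hj'M : j' ∈ M := hj' ▸ M.mul_mem (M.mul_mem hφ hjM) (M.inv_mem hφ)
  have hxj : x * j' = j' * x := by
    have e := congrArg (fun w => φ * w * φ⁻¹) hyj
    simp only [hydef, mul_assoc, mul_inv_cancel_left, mul_inv_cancel, mul_one] at e
    simpa only [hj', mul_assoc] using e
  have hline : ∀ k : K, ∃ l : K, mat Q j' *ᵥ (k • f.u) = l • f.u := fun k => hfix _ (by
    rw [← mulVec_mul, hxj, mulVec_mul, hxU.1, hxU.2])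
  have hj'j : j' * j' = 1 := by
    rw [hj', show φ * j * φ⁻¹ * (φ * j * φ⁻¹) = φ * (j * j) * φ⁻¹ by group, hjj, mul_one, mul_inv_cancel]
  have hj'1 : j' ≠ 1 := fun h => hj1 (by
    rw [hj', mul_inv_eq_one] at h
    exact mul_eq_left.1 h)
  have hj'lin : Lin K j' := lin_of_pow c (f.norm_of_keep ov hj'M hline) (n := 2) (by decide)
    (by rw [pow_two, hj'j]; exact lin_one)
  obtain ⟨l, hl⟩ := hline 1
  rw [one_smul] at hl
  have hll : l * l = 1 := smul_left_injective K f.u_ne (show (l * l) • f.u = (1 : K) • f.u by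
    rw [one_smul, mul_smul, ← hl, ← hj'lin, ← hl, ← mulVec_mul, hj'j, mulVec_one_apply])
  rcases mul_self_eq_one_iff.1 hll with rfl | rfl
  · rw [one_smul] at hl
    have hpow := f.inU_pow_char 3 (ov.le hj'M) ⟨hj'lin, hl⟩
    rw [pow_succ, pow_two, hj'j, one_mul] at hpow
    exact hj'1 hpow
  · obtain ⟨s', hs', hs'0⟩ := f.inU_spec hxΩ hxU
    obtain ⟨r', hr'⟩ := f.lin_line (ov.le hj'M) hj'lin hl
    have e := congrArg (fun w => c.h f.v (mat Q w *ᵥ f.e)) hxj
    simp [mulVec_mul, hs', Ext.eK_apply, hr', hl, hj'lin _ f.u, f.hue, f.huu, f.heu, f.hve, f.hvu,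
      mulVec_add, mulVec_neg] at e
    refine mul_ne_zero (mul_ne_zero h2 (hs'0 hx1)) f.ne ?_
    linear_combination (-1 : K) * e

/-- A member carrying a scaling of `u` by `γ`, `γ² ≠ 1`, into the normaliser normalises the field. -/
theorem norm_of_conj_scale (ov : Over K M) {g φ : Isom Q} (hg : g ∈ M) (hgl : Lin K g) {γ : F}
    (hgu : mat Q g *ᵥ f.u = γ • f.u) (hγ : γ * γ ≠ 1) (hφ : φ ∈ M) (hy : Norm K (φ⁻¹ * g * φ)) :
    Norm K φ := by
  classical
  have hγK : ∀ z : ι → F, γ • z = algebraMap F K γ • z := fun z => (algebraMap_smul K γ z).symm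
  have eig : ∀ {g' : Isom Q}, g' ∈ M → Lin K g' → ∀ {δ : F}, δ * δ ≠ 1 → mat Q g' *ᵥ f.u = δ • f.u →
      ∀ z, mat Q g' *ᵥ z = δ • z → ∃ k : K, z = k • f.u := fun {g'} hg' hl' {δ} hδ hu' z hz =>
    f.eigen_scale (ov.le hg') hl' (γ := algebraMap F K δ) (by rw [algebraMap_smul, hu'])
      (fun e => hδ ((algebraMap F K).injective (by rw [map_mul, e, map_one]))) (by rw [algebraMap_smul, hz])
  have hpu : ∀ n : ℕ, mat Q (g ^ n) *ᵥ f.u = γ ^ n • f.u := fun n => by
    rw [pow_scale hgl (a := algebraMap F K γ) (by rw [algebraMap_smul, hgu]), ← map_pow, algebraMap_smul]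
  have hconj : ∀ n : ℕ, φ⁻¹ * g ^ n * φ = (φ⁻¹ * g * φ) ^ n := fun n => by
    have := conj_pow (a := φ⁻¹) (b := g) (i := n)
    rw [inv_inv] at this
    exact this.symm
  have hcube : ∀ n : ℕ, Lin K ((φ⁻¹ * g * φ) ^ (3 * n)) := fun n => by
    obtain ⟨σ, hσ⟩ := exists_twist c hy
    intro k z
    rw [twist_pow hσ, pow_mul, aut_pow_three c σ, one_pow]
    rfl
  by_cases h6 : γ ^ 3 * γ ^ 3 = 1
  swap
  · exact f.norm_of_conj_lin ov hφ (γ ^ 3) (hpu 3) (eig (M.pow_mem hg 3) (lin_pow hgl 3) h6 (hpu 3))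
      (by rw [hconj]; exact hcube 1)
  -- reduce to order three
  obtain ⟨g', hg'M, hg'l, hy', δ, hδu, hδ, hδ3⟩ : ∃ g', g' ∈ M ∧ Lin K g' ∧ Norm K (φ⁻¹ * g' * φ) ∧
      ∃ δ : F, mat Q g' *ᵥ f.u = δ • f.u ∧ δ * δ ≠ 1 ∧ δ ^ 3 = 1 := by
    refine ⟨g ^ 2, M.pow_mem hg 2, lin_pow hgl 2, by rw [hconj]; exact norm_pow hy 2, γ ^ 2, hpu 2,
      fun h => hγ ?_, by linear_combination h6⟩
    linear_combination h6 - γ ^ 2 * h
  have hδ1 : δ ≠ 1 := fun h => hδ (by rw [h, one_mul])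
  have hfix := eig hg'M hg'l hδ hδu
  by_cases hlin : Lin K (φ⁻¹ * g' * φ)
  · exact f.norm_of_conj_lin ov hφ δ hδu hfix hlin
  by_cases h31 : g' ^ 3 = 1
  swap
  · refine f.norm_of_conj_inU ov (M.pow_mem hg'M 3) ⟨lin_pow hg'l 3, ?_⟩ h31 hφ ?_
    · rw [pow_scale hg'l (a := algebraMap F K δ) (by rw [algebraMap_smul, hδu]), ← map_pow, hδ3, map_one, one_smul]
    · have := conj_pow (a := φ⁻¹) (b := g') (i := 3)
      rw [inv_inv] at this
      rw [← this]
      exact norm_pow hy' 3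
  obtain ⟨σ, hσ⟩ := exists_twist c hy'
  have hσ1 : σ ≠ 1 := fun h => hlin fun k z => by rw [hσ, h]; rfl
  have hy3 : (φ⁻¹ * g' * φ) ^ 3 = 1 := by
    have := conj_pow (a := φ⁻¹) (b := g') (i := 3)
    rw [inv_inv] at this
    rw [this, h31, mul_one, inv_mul_cancel]
  obtain ⟨s, t, r, hpr, hR, hrr, -, hs, -, hr⟩ := exists_fixed_frame c f.dim3 hσ hσ1 hy3
  obtain ⟨x, hxM, hxl, -, hx⟩ := c.exists_eK ov.below hpr.1 hR.1
  have hcomm : φ⁻¹ * g' * φ * x = x * (φ⁻¹ * g' * φ) := isom_ext fun z => by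
    rw [mulVec_mul _ x, mulVec_mul x, hx, hx, eK_twist c hσ hs hr]
  obtain ⟨p, hchar⟩ := CharP.exists F
  have hp : p.Prime := (CharP.char_is_prime_or_zero F p).resolve_right (CharP.char_ne_zero_of_finite F p)
  have : Fact p.Prime := ⟨hp⟩
  have hp3 : p ≠ 3 := fun h => hδ1 (sub_eq_zero.1 (pow_eq_zero_iff (n := p) hp.ne_zero |>.1 (by
    rw [sub_pow_char, one_pow, h, hδ3, sub_self])))
  obtain ⟨x', hx'⟩ : ∃ x', x' = φ * x * φ⁻¹ := ⟨_, rfl⟩
  have hx'M : x' ∈ M := hx' ▸ M.mul_mem (M.mul_mem hφ hxM) (M.inv_mem hφ)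
  have hgx : g' * x' = x' * g' := by
    have e := congrArg (fun w => φ * w * φ⁻¹) hcomm
    simp only [mul_assoc, mul_inv_cancel_left, mul_inv_cancel, mul_one] at e
    simpa only [hx', mul_assoc] using e
  have hline : ∀ k : K, ∃ l : K, mat Q x' *ᵥ (k • f.u) = l • f.u := fun k => hfix _ (by
    rw [← mulVec_mul, hgx, mulVec_mul, hg'l, hδu, smul_comm k δ, mulVec_smul])
  have hxp : x ^ p = 1 := eK_pow_char p hpr.1 hR.1 hx
  have hx'p : x' ^ p = 1 := by rw [hx', conj_pow, hxp, mul_one, mul_inv_cancel]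
  have hx'l : Lin K x' := lin_of_pow c (f.norm_of_keep ov hx'M hline) (n := p)
    (fun hd => hp3 ((Nat.prime_dvd_prime_iff_eq Nat.prime_three hp).1 hd).symm) (by rw [hx'p]; exact lin_one)
  obtain ⟨l, hl⟩ := hline 1
  rw [one_smul] at hl
  have hl1 : l = 1 := by
    have : CharP K p := charP_of_injective_algebraMap (algebraMap F K).injective p
    have e := pow_scale hx'l hl p
    rw [hx'p, mulVec_one_apply] at e
    have e1 : (1 : K) = l ^ p := smul_left_injective K f.u_ne (show (1 : K) • f.u = l ^ p • f.u by rwa [one_smul])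
    exact sub_eq_zero.1 (pow_eq_zero_iff (n := p) hp.ne_zero |>.1 (by rw [sub_pow_char, one_pow, ← e1, sub_self]))
  have hx1 : x ≠ 1 := fun h => by
    have e := congrArg (c.h r) (hx t)
    rw [h, mulVec_one_apply, Ext.eK_apply] at e
    simp [hpr.2.2, hR.1, hR.2, c.symm r s, c.symm r t] at e
    exact hrr e.symm
  refine f.norm_of_conj_inU ov hx'M ⟨hx'l, by rw [hl, hl1, one_smul]⟩ ?_ hφ ?_
  · exact fun h => hx1 (by rw [hx', mul_inv_eq_one] at h; exact mul_eq_left.1 h)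
  · rw [hx', show φ⁻¹ * (φ * x * φ⁻¹) * φ = x by group]
    exact hxl.norm

end Fr

end CfsgLib.OrthExtThree
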