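import Cfsg.Agent.OrthExtThree.Members

/-!
# The endgame in three dimensions

Images of the line of `u` meet only if equal; then there are too many of them.
-/

set_option autoImplicit false
set_option linter.unusedSectionVars false
set_option maxHeartbeats 2000000
set_option synthInstance.maxHeartbeats 400000

namespace CfsgLib.OrthExtThree

open Matrix Module CfsgLib.Spinor CfsgLib.OrthMax CfsgLib.OrthExtR

variable {F : Type*} [Field F] [Fintype F] {ι : Type} [Fintype ι] [DecidableEq ι]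
  {Q : QuadraticForm F (ι → F)}
variable {K : Type*} [Field K] [Algebra F K] [Module K (ι → F)] [IsScalarTower F K (ι → F)]
variable {c : Ext Q K}

attribute [local instance] subAct

theorem le_smul_iff {g : Isom Q} {S W : Submodule F (ι → F)} : S ≤ g • W ↔ g⁻¹ • S ≤ W := by
  constructor
  · intro h x hx
    obtain ⟨y, hy, rfl⟩ := hx
    rw [Matrix.toLin'_apply]
    exact mem_smul.1 (h hy)
  · intro h x hx
    exact mem_smul.2 (h (mulVec_mem_smul hx))

namespace Fr

variable (f : Fr c) {M : Subgroup (Isom Q)}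
include f

theorem quad_member {W S : Submodule F (ι → F)} (hW : f.Mem M S W) {x : ι → F} (hx : x ∈ W) : Q x = 0 := by
  obtain ⟨⟨φ, -, rfl⟩, -⟩ := hW
  rw [← quad_mulVec Q φ⁻¹ x]
  exact f.quad_line (mem_smul.1 hx)

theorem polar_member {W S : Submodule F (ι → F)} (hW : f.Mem M S W) {x s : ι → F} (hx : x ∈ W) (hs : s ∈ S) :
    QuadraticMap.polar (⇑Q) s x = 0 :=
  OrthMax.polar_eq_zero (fun _ h => f.quad_member hW h) (hW.2 hs) hx

theorem finrank_member {W S : Submodule F (ι → F)} (hW : f.Mem M S W) : finrank F W = 3 := by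
  obtain ⟨⟨φ, -, rfl⟩, -⟩ := hW
  rw [finrank_smul, f.finrank_line]

theorem one_le_ncard {S : Submodule F (ι → F)} (hS : S ≤ f.line) : 1 ≤ {W | f.Mem M S W}.ncard :=
  (Set.ncard_pos (Set.toFinite _)).2 ⟨f.line, ⟨1, M.one_mem, (one_smul _ _).symm⟩, hS⟩

theorem eq_line_of_card {S : Submodule F (ι → F)} (hS : S ≤ f.line) (h1 : {W | f.Mem M S W}.ncard = 1)
    {W : Submodule F (ι → F)} (hW : f.Mem M S W) : W = f.line := by
  obtain ⟨a, ha⟩ := Set.ncard_eq_one.1 h1
  exact (ha.le hW : W = a).trans (ha.le (⟨⟨1, M.one_mem, (one_smul _ _).symm⟩, hS⟩ : f.Mem M S f.line) : f.line = a).symm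

/-- Disjoint pieces of the members lie in a common set. -/
theorem pieces_le (S : Submodule F (ι → F)) {d : ℕ} (hd : finrank F S = d) (P : (ι → F) → Prop)
    (hmem : ∀ W, f.Mem M S W → ∀ x ∈ W, P x)
    (hint : ∀ W W', f.Mem M S W → f.Mem M S W' → ∀ x ∈ W, x ∈ W' → x ∉ S → W = W') :
    {W | f.Mem M S W}.ncard * (Fintype.card F ^ 3 - Fintype.card F ^ d) ≤ Nat.card {x // P x} := by
  classical
  let ψ : (Σ W : {W // f.Mem M S W}, ↥(((W.1 : Submodule F (ι → F)) : Set (ι → F)) \ (S : Set (ι → F)))) →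
      {x // P x} := fun t => ⟨t.2.1, hmem _ t.1.2 _ t.2.2.1⟩
  have hinj : Function.Injective ψ := by
    rintro ⟨⟨W, hW⟩, x, hx⟩ ⟨⟨W', hW'⟩, x', hx'⟩ e
    obtain rfl : x = x' := congrArg Subtype.val e
    obtain rfl : W = W' := hint W W' hW hW' x hx.1 hx'.1 hx.2
    rfl
  have h := Nat.card_le_card_of_injective ψ hinj
  have : Fintype {W // f.Mem M S W} := Fintype.ofFinite _
  rw [Nat.card_sigma, Finset.sum_congr rfl (g := fun _ => Fintype.card F ^ 3 - Fintype.card F ^ d) fun W _ => by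
    rw [Nat.card_coe_set_eq, Set.ncard_sdiff (SetLike.coe_subset_coe.2 W.2.2) (Set.toFinite _),
      ← Nat.card_coe_set_eq, ← Nat.card_coe_set_eq, SetLike.coe_sort_coe, SetLike.coe_sort_coe,
      Module.natCard_eq_pow_finrank (K := F) (V := ↥W.1), Module.natCard_eq_pow_finrank (K := F) (V := ↥S),
      f.finrank_member W.2, hd,
      Nat.card_eq_fintype_card], Finset.sum_const, Finset.card_univ, smul_eq_mul] at h
  rwa [← Nat.card_eq_fintype_card, show Nat.card {W // f.Mem M S W} = {W | f.Mem M S W}.ncard from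
    Nat.card_coe_set_eq _] at h

/-- Images of the line sharing a plane with it coincide with it. -/
theorem eq_line_of_plane (ov : Over K M) (cn : Counts Q) {φ : Isom Q} (hφ : φ ∈ M)
    (h : 2 ≤ finrank F ↥(f.line ⊓ φ • f.line)) : φ • f.line = f.line := by
  obtain ⟨I, hI⟩ : ∃ I, I = f.line ⊓ φ • f.line := ⟨_, rfl⟩
  rw [← hI] at h
  by_cases h3 : 3 ≤ finrank F I
  · have e1 : I = f.line := Submodule.eq_of_le_of_finrank_le (hI.le.trans inf_le_left) (by rw [f.finrank_line]; omega)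
    exact (Submodule.eq_of_le_of_finrank_le (e1.symm.le.trans (hI.le.trans inf_le_right))
      (by rw [finrank_smul])).symm
  have hd : finrank F I = 2 := by omega
  have hIL : I ≤ f.line := hI.le.trans inf_le_left
  have hI0 : I ≠ ⊥ := fun e => by rw [e, finrank_bot] at hd; omega
  have hint : ∀ W W', f.Mem M I W → f.Mem M I W' → ∀ x ∈ W, x ∈ W' → x ∉ I → W = W' := by
    intro W W' hW hW' x hx hx' hxI
    have hlt : I < W ⊓ W' := lt_of_le_of_ne (le_inf hW.2 hW'.2) fun e => hxI (e ▸ ⟨hx, hx'⟩)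
    have h1 := Submodule.finrank_lt_finrank_of_lt hlt
    rw [hd] at h1
    have e1 : W ⊓ W' = W := Submodule.eq_of_le_of_finrank_le inf_le_left (by rw [f.finrank_member hW]; omega)
    exact Submodule.eq_of_le_of_finrank_le (inf_eq_left.1 e1) (by rw [f.finrank_member hW, f.finrank_member hW'])
  have hbound := f.pieces_le (M := M) I hd (fun x => x ∈ qperp Q I)
    (fun W hW x hx => mem_qperp.2 fun s hs => f.polar_member hW hx hs) hint
  rw [show Nat.card {x // x ∈ qperp Q I} = Nat.card F ^ finrank F (qperp Q I) from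
    Module.natCard_eq_pow_finrank, finrank_qperp c.nondeg, hd,
    cn.nine, Nat.card_eq_fintype_card] at hbound
  refine f.eq_line_of_card hIL (f.ncard_mem_eq_one ov cn hIL hI0 ?_) ⟨⟨φ, hφ, rfl⟩, hI.le.trans inf_le_right⟩
  have hq : 0 < Fintype.card F := Fintype.card_pos
  have e : Fintype.card F ^ 3 - Fintype.card F ^ 2 = Fintype.card F ^ 2 * (Fintype.card F - 1) := by
    rw [Nat.mul_sub_one]; ring_nf
  rw [e, show Fintype.card F ^ 7 = Fintype.card F ^ 2 * Fintype.card F ^ 5 by ring, ← mul_assoc,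
    mul_comm _ (Fintype.card F ^ 2), mul_assoc] at hbound
  exact Nat.le_of_mul_le_mul_left hbound (pow_pos hq 2)

/-- Images of the line meeting it coincide with it. -/
theorem eq_line_of_meet (ov : Over K M) (cn : Counts Q) {φ : Isom Q} (hφ : φ ∈ M) {z : ι → F} (hz0 : z ≠ 0)
    (hz : z ∈ f.line) (hz' : z ∈ φ • f.line) : φ • f.line = f.line := by
  obtain ⟨S, hS⟩ : ∃ S, S = Submodule.span F {z} := ⟨_, rfl⟩
  have hSL : S ≤ f.line := by rw [hS, Submodule.span_singleton_le_iff_mem]; exact hz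
  have hS' : S ≤ φ • f.line := by rw [hS, Submodule.span_singleton_le_iff_mem]; exact hz'
  have hd : finrank F S = 1 := by rw [hS, finrank_span_singleton hz0]
  have hint : ∀ W W', f.Mem M S W → f.Mem M S W' → ∀ x ∈ W, x ∈ W' → x ∉ S → W = W' := by
    intro W W' hW hW' x hx hx' hxS
    obtain ⟨⟨α, hα, rfl⟩, hSW⟩ := hW
    obtain ⟨⟨β, hβ, rfl⟩, hSW'⟩ := hW'
    have hlt : S < α • f.line ⊓ β • f.line := lt_of_le_of_ne (le_inf hSW hSW') fun e => hxS (e ▸ ⟨hx, hx'⟩)
    have h1 := Submodule.finrank_lt_finrank_of_lt hlt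
    rw [hd] at h1
    have h2 : 2 ≤ finrank F ↥(f.line ⊓ (α⁻¹ * β) • f.line) := by
      refine Nat.succ_le_of_lt (h1.trans_le ((finrank_smul α⁻¹ (α • f.line ⊓ β • f.line)).symm.trans_le
        (Submodule.finrank_mono ?_)))
      rw [← le_smul_iff]
      intro y hy
      refine mem_smul.2 ⟨mem_smul.1 hy.1, ?_⟩
      rw [mul_smul]
      exact mulVec_mem_smul hy.2
    have e := f.eq_line_of_plane ov cn (M.mul_mem (M.inv_mem hα) hβ) h2
    rw [mul_smul, inv_smul_eq_iff] at e
    exact e.symm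
  have hbound := f.pieces_le (M := M) S hd (fun x => Q x = 0 ∧ QuadraticMap.polar (⇑Q) z x = 0)
    (fun W hW x hx => ⟨f.quad_member hW hx, f.polar_member hW hx (hS ▸ Submodule.mem_span_singleton_self z)⟩) hint
  have hb := hbound.trans (cn.perp z hz0 (f.quad_line hz))
  refine f.eq_line_of_card hSL (f.ncard_mem_eq_one ov cn hSL (fun e => by rw [e, finrank_bot] at hd; omega) ?_)
    ⟨⟨φ, hφ, rfl⟩, hS'⟩
  obtain ⟨q, hq⟩ : ∃ q, Fintype.card F = q + 1 := ⟨Fintype.card F - 1, by have := Fintype.card_pos (α := F); omega⟩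
  rw [hq, pow_one] at hb
  rw [hq, Nat.add_sub_cancel]
  rw [show (q + 1) ^ 3 - (q + 1) = (q + 1) * (q * (q + 2)) by
    rw [Nat.sub_eq_iff_eq_add (Nat.le_self_pow (by norm_num) _)]; ring] at hb
  have h1 : {W | f.Mem M S W}.ncard * q * (q + 2) ≤ (q + 1) ^ 6 := by
    refine Nat.le_of_mul_le_mul_left ?_ (Nat.succ_pos q)
    calc (q + 1) * ({W | f.Mem M S W}.ncard * q * (q + 2))
        = {W | f.Mem M S W}.ncard * ((q + 1) * (q * (q + 2))) := by ring
      _ ≤ (q + 1) ^ 7 := hb
      _ = (q + 1) * (q + 1) ^ 6 := by ring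
  refine Nat.le_of_mul_le_mul_left ?_ (Nat.succ_pos q)
  calc (q + 1) * ({W | f.Mem M S W}.ncard * q) ≤ (q + 2) * ({W | f.Mem M S W}.ncard * q) := by
        gcongr; omega
    _ ≤ (q + 1) ^ 6 := by linarith
    _ = (q + 1) * (q + 1) ^ 5 := by ring

/-- Too many disjoint images. -/
theorem false_of_over (ov : Over K M) (cn : Counts Q) {φ : Isom Q} (hφ : φ ∈ M) (hn : ¬ Norm K φ) : False := by
  classical
  have := c.finite
  have hmeet : ∀ {ψ : Isom Q}, ψ ∈ M → ∀ {z : ι → F}, z ≠ 0 → z ∈ f.line → z ∈ ψ • f.line → Norm K ψ :=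
    fun hψ _ hz0 hz hz' => f.norm_of_fix ov hψ (f.eq_line_of_meet ov cn hψ hz0 hz hz')
  -- representatives
  choose x hx hxe using f.exists_uGroup ov
  let rep : Option K → Isom Q := fun i => i.elim 1 fun s => x s * φ
  have hrepM : ∀ i, rep i ∈ M := by
    rintro (_ | s)
    · exact M.one_mem
    · exact M.mul_mem (hx s).1 hφ
  have hrep : ∀ i i', Norm K ((rep i')⁻¹ * rep i) → i = i' := by
    rintro (_ | s) (_ | s') h
    · rfl
    · refine absurd ?_ hn
      simp only [rep, Option.elim_none, Option.elim_some, mul_one, _root_.mul_inv_rev] at h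
      have := c.nontrivial'
      have h' := h.inv
      rw [_root_.mul_inv_rev, inv_inv, inv_inv] at h'
      have h'' := (hx s').2.1.inv.norm.mul h'
      rwa [← mul_assoc, inv_mul_cancel, one_mul] at h''
    · refine absurd ?_ hn
      simp only [rep, Option.elim_none, Option.elim_some, inv_one, one_mul] at h
      have h'' := (hx s).2.1.inv.norm.mul h
      rwa [← mul_assoc, inv_mul_cancel, one_mul] at h''
    · simp only [rep, Option.elim_some, _root_.mul_inv_rev] at h
      by_contra hne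
      have hmem : (x s')⁻¹ * x s ∈ f.uGroup M := mul_mem (inv_mem (hx s')) (hx s)
      refine hn (f.norm_of_conj_inU ov hmem.1 hmem.2 (fun e => hne ?_) hφ (by
        rwa [show φ⁻¹ * ((x s')⁻¹ * x s) * φ = φ⁻¹ * (x s')⁻¹ * (x s * φ) by group]))
      have e' := congrArg (fun w : Isom Q => c.h f.v (mat Q w *ᵥ f.e)) (inv_mul_eq_one.1 e).symm
      simp [hxe, Ext.eK_apply, f.hue, f.hve, f.hvu, f.ne] at e'
      rw [e']
  -- the lines
  let vec : Option K → (ι → F) := fun j => j.elim f.u fun s => c.eK f.u (s • f.e) f.v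
  have hvec : ∀ j, c.h (vec j) (vec j) = 0 ∧ vec j ≠ 0 := by
    rintro (_ | s)
    · exact ⟨f.huu, f.u_ne⟩
    · simp only [vec, Option.elim_some]
      refine ⟨by rw [c.h_eK f.huu (by simp [f.hue]), f.hvv], fun e => ?_⟩
      have e' := congrArg (c.h f.u) e
      simp [Ext.eK_apply, f.huv, f.huu, f.hue] at e'
  have hline : ∀ j j' (k : K), vec j = k • vec j' → j = j' := by
    rintro (_ | s) (_ | s') k e <;> simp only [vec, Option.elim_none, Option.elim_some] at e
    · rfl
    · have e1 := congrArg (c.h f.u) e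
      simp [Ext.eK_apply, f.huv, f.huu, f.hue] at e1
      rw [← e1, zero_smul] at e
      exact absurd e f.u_ne
    · have e1 := congrArg (c.h f.u) e
      simp [Ext.eK_apply, f.huv, f.huu, f.hue] at e1
    · have e1 := congrArg (c.h f.u) e
      have e2 := congrArg (c.h f.e) e
      simp [Ext.eK_apply, f.huv, f.huu, f.hue, f.hev, f.heu] at e1 e2
      rw [← e1, one_mul] at e2
      rw [mul_right_cancel₀ f.ne e2]
  choose n hnM hnl hnΩ a ha hna using fun j => c.exists_map_line ov.below f.huu f.u_ne (hvec j).1 (hvec j).2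
  let Φ : Option K × Option K × Kˣ → {z : ι → F // z ≠ 0} := fun t =>
    ⟨mat Q (rep t.1 * n t.2.1) *ᵥ ((t.2.2 : K) • f.u), mulVec_ne_zero _ (smul_ne_zero t.2.2.ne_zero f.u_ne)⟩
  have hinj : Function.Injective Φ := by
    rintro ⟨i, j, t⟩ ⟨i', j', t'⟩ e
    have e' : mat Q (rep i * n j) *ᵥ ((t : K) • f.u) = mat Q (rep i' * n j') *ᵥ ((t' : K) • f.u) :=
      congrArg Subtype.val e
    have hN : Norm K ((rep i' * n j')⁻¹ * (rep i * n j)) := by
      refine hmeet (M.mul_mem (M.inv_mem (M.mul_mem (hrepM i') (hnM j'))) (M.mul_mem (hrepM i) (hnM j)))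
        (smul_ne_zero t'.ne_zero f.u_ne) (f.mem_line.2 ⟨_, rfl⟩) ?_
      rw [← inv_mulVec_cancel (rep i' * n j') ((t' : K) • f.u), ← e', ← mulVec_mul]
      exact mulVec_mem_smul (f.mem_line.2 ⟨_, rfl⟩)
    have hN' := ((hnl j').norm.mul hN).mul (hnl j).inv.norm
    rw [show n j' * ((rep i' * n j')⁻¹ * (rep i * n j)) * (n j)⁻¹ = (rep i')⁻¹ * rep i by group] at hN'
    obtain rfl := hrep _ _ hN'
    rw [mulVec_mul, mulVec_mul, mulVec_eq_iff, hnl j, hnl j', hna, hna, smul_smul, smul_smul] at e'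
    have hta : (t : K) * a j ≠ 0 := mul_ne_zero t.ne_zero (ha j)
    obtain rfl := hline j j' (((t : K) * a j)⁻¹ * ((t' : K) * a j')) (by rw [mul_smul, ← e', inv_smul_smul₀ hta])
    have ht : (t : K) * a j = (t' : K) * a j := smul_left_injective K (hvec j).2 e'
    obtain rfl : t = t' := Units.ext (mul_right_cancel₀ (ha j) ht)
    rfl
  have h := Nat.card_le_card_of_injective Φ hinj
  have : Fintype K := Fintype.ofFinite K
  have hV : Nat.card {z : ι → F // z ≠ 0} = Fintype.card F ^ 9 - 1 := by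
    rw [Nat.card_eq_fintype_card, Fintype.card_subtype_compl, Fintype.card_subtype_eq, Fintype.card_fun, cn.nine]
  rw [Nat.card_prod, Nat.card_prod, Finite.card_option, Nat.card_units, f.card_K, hV] at h
  obtain ⟨q, hq⟩ : ∃ q, Fintype.card F ^ 3 = q + 1 := ⟨Fintype.card F ^ 3 - 1, by
    have := pow_pos (Fintype.card_pos (α := F)) 3; omega⟩
  rw [show Fintype.card F ^ 9 = (Fintype.card F ^ 3) ^ 3 by ring, hq, Nat.add_sub_cancel] at h
  have h1 : 1 < Fintype.card F ^ 3 := Nat.one_lt_pow (by norm_num) Fintype.one_lt_card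
  have h2 : (q + 1) ^ 3 - 1 = q * (q ^ 2 + 3 * q + 3) := by
    rw [Nat.sub_eq_iff_eq_add (Nat.one_le_pow (m := q + 1) (n := 3) (by omega))]; ring
  rw [h2] at h
  have h3 : q * (q ^ 2 + 3 * q + 3) < (q + 1 + 1) * ((q + 1 + 1) * q) := by
    rw [show (q + 1 + 1) * ((q + 1 + 1) * q) = q * ((q + 1 + 1) * (q + 1 + 1)) by ring]
    exact Nat.mul_lt_mul_of_pos_left (by nlinarith) (by omega)
  omega

end Fr

/-- A group above the normaliser of the field, with a member outside, contains `Ω`. -/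
theorem omega_le (c : Ext Q K) (h3 : finrank K (ι → F) = 3) (cn : Counts Q) {M : Subgroup (Isom Q)}
    (hM : Below K M) (hMΩ : M ≤ Cfsg.Omega F ⇑Q) {g : Isom Q} (hg : g ∈ M) (hn : ¬ Norm K g) :
    Cfsg.Omega F ⇑Q ≤ M := by
  by_contra hle
  obtain ⟨u, hu0, hu⟩ := c.exists_singular
  obtain ⟨f, -⟩ := exists_fr c h3 hu hu0
  exact f.false_of_over ⟨hM, hMΩ, hle⟩ cn hg hn

end CfsgLib.OrthExtThree
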