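import Cfsg.Agent.OrthExtR.Line
import Cfsg.Agent.TwoRank.Orthogonal

/-!
# Three-dimensional spaces over a cubic extension

A frame `u, e, v`; the members of `Ω` commuting with the field which scale or fix `u`.
-/

set_option autoImplicit false
set_option linter.unusedSectionVars false
set_option maxHeartbeats 1000000

namespace CfsgLib.OrthExtThree

open Matrix Module CfsgLib.Spinor CfsgLib.OrthMax CfsgLib.OrthExtR

variable {F : Type*} [Field F] [Fintype F] {ι : Type} [Fintype ι] [DecidableEq ι]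
  {Q : QuadraticForm F (ι → F)}
variable {K : Type*} [Field K] [Algebra F K] [Module K (ι → F)] [IsScalarTower F K (ι → F)]

theorem mulVec_one_apply (x : ι → F) : mat Q (1 : Isom Q) *ᵥ x = x := by rw [mat_one, one_mulVec]

theorem mulVec_mul (g g' : Isom Q) (x : ι → F) : mat Q (g * g') *ᵥ x = mat Q g *ᵥ (mat Q g' *ᵥ x) := by
  rw [mat_mul, mulVec_mulVec]

/-- A frame of a three-dimensional space over `K`. -/
structure Fr (c : Ext Q K) where
  u : ι → F
  e : ι → F
  v : ι → F
  pair : c.Pair u v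
  rest : c.Rest u v e
  ne : c.h e e ≠ 0
  dim3 : finrank K (ι → F) = 3

variable {c : Ext Q K}

theorem exists_fr (c : Ext Q K) (h3 : finrank K (ι → F) = 3) {u : ι → F} (hu : c.h u u = 0) (hu0 : u ≠ 0) :
    ∃ f : Fr c, f.u = u := by
  obtain ⟨v, hp⟩ := c.exists_pair_of_singular hu hu0
  obtain ⟨w, hw1, hw2, hw3⟩ := c.exists_aniso_perp hp.1 hp.2.1 (by rw [hp.2.2]; exact one_ne_zero)
  exact ⟨⟨u, w, v, hp, ⟨hw1, hw2⟩, hw3, h3⟩, rfl⟩

namespace Fr

variable (f : Fr c)
include f

theorem huu : c.h f.u f.u = 0 := f.pair.1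

theorem hue : c.h f.u f.e = 0 := f.rest.1

theorem hve : c.h f.v f.e = 0 := f.rest.2

theorem huv : c.h f.u f.v = 1 := f.pair.2.2

theorem hvv : c.h f.v f.v = 0 := f.pair.2.1

theorem hvu : c.h f.v f.u = 1 := f.pair.vu

theorem heu : c.h f.e f.u = 0 := by rw [c.symm, f.hue]

theorem hev : c.h f.e f.v = 0 := by rw [c.symm, f.hve]

theorem u_ne : f.u ≠ 0 := f.pair.left_ne

theorem fin_card : Fintype.card (Fin 3) = finrank K (ι → F) := by rw [Fintype.card_fin, f.dim3]

theorem li : LinearIndependent K ![f.u, f.e, f.v] := by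
  rw [Fintype.linearIndependent_iff]
  intro g hg
  simp only [Fin.sum_univ_three, Matrix.cons_val_zero, Matrix.cons_val_one, Matrix.cons_val_two] at hg
  have h1 := congrArg (c.h f.u) hg
  have h2 := congrArg (c.h f.v) hg
  have h3 := congrArg (c.h f.e) hg
  simp [f.huu, f.hue, f.huv, f.hve, f.hvv, f.hvu, f.heu, f.hev, f.ne] at h1 h2 h3
  intro i
  fin_cases i <;> assumption

noncomputable def basis : Basis (Fin 3) K (ι → F) :=
  basisOfLinearIndependentOfCardEqFinrank f.li f.fin_card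

theorem basis_apply (i : Fin 3) : f.basis i = ![f.u, f.e, f.v] i := by
  rw [basis, coe_basisOfLinearIndependentOfCardEqFinrank]

/-- The components along the frame. -/
theorem expand (x : ι → F) :
    x = c.h f.v x • f.u + (c.h f.e x / c.h f.e f.e) • f.e + c.h f.u x • f.v := by
  have h := f.basis.sum_repr x
  simp only [Fin.sum_univ_three, f.basis_apply, Matrix.cons_val_zero, Matrix.cons_val_one,
    Matrix.cons_val_two] at h
  conv_lhs => rw [← h]
  have h1 := congrArg (c.h f.u) h
  have h2 := congrArg (c.h f.v) h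
  have h3 := congrArg (c.h f.e) h
  simp [f.huu, f.hue, f.huv, f.hve, f.hvv, f.hvu, f.heu, f.hev] at h1 h2 h3
  rw [← h1, ← h2, ← h3, mul_div_cancel_right₀ _ f.ne]
  simp

theorem ext_apply {a b : (ι → F) →ₗ[K] (ι → F)} (h1 : a f.u = b f.u) (h2 : a f.e = b f.e)
    (h3 : a f.v = b f.v) (x : ι → F) : a x = b x := by
  rw [f.expand x]
  simp [h1, h2, h3]

/-- The `K`-linear map of a member commuting with the field. -/
def linMap {g : Isom Q} (hg : Lin K g) : (ι → F) →ₗ[K] (ι → F) where
  toFun x := mat Q g *ᵥ x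
  map_add' x y := mulVec_add _ x y
  map_smul' k x := hg k x

/-- Members of `Ω` scaling `u` act on the middle vector as a transvection. -/
theorem lin_line {g : Isom Q} (hgΩ : g ∈ Cfsg.Omega F ⇑Q) (hg : Lin K g) {a : K}
    (hgu : mat Q g *ᵥ f.u = a • f.u) : ∃ r : K, mat Q g *ᵥ f.e = f.e + r • f.u := by
  classical
  have := c.fdF
  have := c.finite
  have ha : a ≠ 0 := fun h => mulVec_ne_zero g f.u_ne (by rw [hgu, h, zero_smul])
  have hm := c.h_map hg
  have h1 : c.h f.u (mat Q g *ᵥ f.e) = 0 := by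
    have := hm f.u f.e
    rw [hgu, LinearMap.map_smul₂, f.hue, smul_eq_mul] at this
    exact (mul_eq_zero.1 this).resolve_left ha
  have h2 : c.h f.u (mat Q g *ᵥ f.v) = a⁻¹ := by
    have := hm f.u f.v
    rw [hgu, LinearMap.map_smul₂, f.huv, smul_eq_mul] at this
    exact eq_inv_of_mul_eq_one_right this
  obtain ⟨ε, r, he⟩ : ∃ ε r : K, mat Q g *ᵥ f.e = r • f.u + ε • f.e := by
    refine ⟨c.h f.e (mat Q g *ᵥ f.e) / c.h f.e f.e, c.h f.v (mat Q g *ᵥ f.e), ?_⟩
    conv_lhs => rw [f.expand (mat Q g *ᵥ f.e), h1, zero_smul, add_zero]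
  obtain ⟨t, s, hv⟩ : ∃ t s : K, mat Q g *ᵥ f.v = t • f.u + s • f.e + a⁻¹ • f.v :=
    ⟨_, _, by conv_lhs => rw [f.expand (mat Q g *ᵥ f.v), h2]⟩
  have hεε : ε * ε = 1 := by
    have := hm f.e f.e
    rw [he] at this
    simp [f.huu, f.hue, f.heu] at this
    refine mul_right_cancel₀ f.ne ?_
    linear_combination this
  rcases mul_self_eq_one_iff.1 hεε with rfl | rfl
  · exact ⟨r, by rw [he, one_smul, add_comm]⟩
  exfalso
  have hres : (linMap (K := K) hg).restrictScalars F = Matrix.toLin' (mat Q g) := LinearMap.ext fun x => by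
    simp [linMap]
  have hK : LinearMap.det (linMap (K := K) hg) = -1 := by
    rw [← LinearMap.det_toMatrix f.basis, Matrix.det_fin_three]
    have e0 : linMap (K := K) hg (f.basis 0) = a • f.basis 0 := by
      simp [linMap, f.basis_apply, hgu]
    have e1 : linMap (K := K) hg (f.basis 1) = r • f.basis 0 + (-1 : K) • f.basis 1 := by
      simp [linMap, f.basis_apply, he]
    have e2 : linMap (K := K) hg (f.basis 2) = t • f.basis 0 + s • f.basis 1 + a⁻¹ • f.basis 2 := by
      simp [linMap, f.basis_apply, hv]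
    simp only [LinearMap.toMatrix_apply, e0, e1, e2, map_add, map_smul, Basis.repr_self,
      Finsupp.add_apply, Finsupp.smul_apply, smul_eq_mul, Finsupp.single_apply]
    simp [ha]
  have hdet : LinearMap.det ((linMap (K := K) hg).restrictScalars F) = 1 := by
    rw [hres, LinearMap.det_toLin', TwoRank.det_omega hgΩ]
  rw [LinearMap.det_restrictScalars, hK, show (-1 : K) = algebraMap F K (-1) by simp,
    Algebra.norm_algebraMap, c.deg] at hdet
  exact c.two (by linear_combination -hdet)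

/-- Members of `Ω` commuting with the field and fixing `u` are Eichler maps. -/
theorem inU_eq {g : Isom Q} (hgΩ : g ∈ Cfsg.Omega F ⇑Q) (hg : Lin K g) (hgu : mat Q g *ᵥ f.u = f.u) :
    ∃ s : K, ∀ x, mat Q g *ᵥ x = c.eK f.u (s • f.e) x := by
  have h2' := c.two'
  obtain ⟨r, he⟩ := f.lin_line hgΩ hg (a := 1) (by rw [hgu, one_smul])
  have hm := c.h_map hg
  have hu1 : c.h f.u (mat Q g *ᵥ f.v) = 1 := by
    have := hm f.u f.v
    rwa [hgu, f.huv] at this
  obtain ⟨t, s, hv⟩ : ∃ t s : K, mat Q g *ᵥ f.v = t • f.u + s • f.e + f.v :=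
    ⟨_, _, by conv_lhs => rw [f.expand (mat Q g *ᵥ f.v), hu1, one_smul]⟩
  have hr : r = -(s * c.h f.e f.e) := by
    have := hm f.e f.v
    rw [he, hv] at this
    simp [f.huu, f.hue, f.heu, f.huv, f.hev] at this
    linear_combination this
  have ht : t = -(c.q (s • f.e)) := by
    have := hm f.v f.v
    rw [hv] at this
    simp [f.huu, f.hue, f.heu, f.huv, f.hev, f.hve, f.hvv, f.hvu] at this
    have hq : (2 : K) * c.q (s • f.e) = s * (s * c.h f.e f.e) := by
      rw [c.two_q]; simp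
    refine mul_left_cancel₀ h2' ?_
    linear_combination this + hq
  refine ⟨s, fun x => f.ext_apply (a := linMap hg) ?_ ?_ ?_ x⟩
  · exact hgu.trans (c.eK_self f.huu (by simp [f.hue])).symm
  · show mat Q g *ᵥ f.e = _
    rw [he, hr, Ext.eK_apply]
    simp [f.hue]
  · show mat Q g *ᵥ f.v = _
    rw [hv, ht, Ext.eK_apply]
    simp [f.huv, f.hev]
    module

theorem eK_zero (x : ι → F) : c.eK f.u ((0 : K) • f.e) x = x := by
  rw [Ext.eK_apply]; simp [Ext.q]

/-- The fixed vectors of a non-trivial member fixing `u`. -/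
theorem fixed_inU {g : Isom Q} {s : K} (hs : s ≠ 0) (hg : ∀ x, mat Q g *ᵥ x = c.eK f.u (s • f.e) x)
    {z : ι → F} (hz : mat Q g *ᵥ z = z) : ∃ k : K, z = k • f.u := by
  rw [hg, Ext.eK_apply] at hz
  have h1 := congrArg (c.h f.e) hz
  have h3 := congrArg (c.h f.v) hz
  simp [f.heu, f.hve, f.hvu, hs, f.ne] at h1 h3
  refine ⟨c.h f.v z, ?_⟩
  conv_lhs => rw [f.expand z]
  simp_all

end Fr

end CfsgLib.OrthExtThree
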