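import Cfsg.Agent.OrthExtThree.Conj
import Cfsg.Agent.OrthExtThree.Actions
import Cfsg.Agent.OrthExtThree.Arith

/-!
# The members through a subspace of a singular line

The images of a singular `K`-line under a group above the normaliser: few of them contain a given non-zero
subspace of it, and then only one.
-/

set_option autoImplicit false
set_option linter.unusedSectionVars false
set_option maxHeartbeats 2000000
set_option synthInstance.maxHeartbeats 400000

namespace CfsgLib.OrthExtThree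

open Matrix Module CfsgLib.Spinor CfsgLib.OrthMax CfsgLib.OrthExtR

variable {F : Type*} [Field F] [Fintype F] {ι : Type} [Fintype ι] [DecidableEq ι]
  {Q : QuadraticForm F (ι → F)}
variable {K : Type*} [Field K] [Algebra F K] [Module K (ι → F)] [IsScalarTower F K (ι → F)]

/-- Isometries act on subspaces. -/
@[instance_reducible] def subAct (Q : QuadraticForm F (ι → F)) : MulAction (Isom Q) (Submodule F (ι → F)) where
  smul g W := W.map (Matrix.toLin' (mat Q g))
  one_smul W := by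
    show W.map _ = W
    rw [mat_one, Matrix.toLin'_one, Submodule.map_id]
  mul_smul g g' W := by
    show W.map _ = (W.map _).map _
    rw [mat_mul, Matrix.toLin'_mul, Submodule.map_comp]

attribute [local instance] subAct

theorem mem_smul {g : Isom Q} {W : Submodule F (ι → F)} {x : ι → F} :
    x ∈ g • W ↔ mat Q g⁻¹ *ᵥ x ∈ W := by
  constructor
  · rintro ⟨w, hw, rfl⟩
    rwa [Matrix.toLin'_apply, inv_mulVec_cancel]
  · exact fun h => ⟨_, h, by rw [Matrix.toLin'_apply, mulVec_inv_cancel]⟩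

theorem mulVec_mem_smul {g : Isom Q} {W : Submodule F (ι → F)} {x : ι → F} (h : x ∈ W) :
    mat Q g *ᵥ x ∈ g • W := mem_smul.2 (by rwa [inv_mulVec_cancel])

theorem finrank_smul (g : Isom Q) (W : Submodule F (ι → F)) : finrank F ↥(g • W) = finrank F W :=
  (Submodule.equivMapOfInjective (Matrix.toLin' (mat Q g)) (fun _ _ e => (mulVec_eq_iff g).1 (by simpa using e))
    W).finrank_eq.symm

/-- Fixing a subspace pointwise. -/
def fixer (Q : QuadraticForm F (ι → F)) (S : Submodule F (ι → F)) : Subgroup (Isom Q) where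
  carrier := {g | ∀ x ∈ S, mat Q g *ᵥ x = x}
  one_mem' x _ := mulVec_one_apply x
  mul_mem' {g g'} hg hg' x hx := by rw [mulVec_mul, hg' x hx, hg x hx]
  inv_mem' {g} hg x hx := (mulVec_eq_iff g).1 (by rw [mulVec_inv_cancel, hg x hx])

/-- The orders and counts used below. -/
structure Counts (Q : QuadraticForm F (ι → F)) : Prop where
  nine : Fintype.card ι = 9
  stab : ∀ a, a ≠ 0 → Q a = 0 → Nat.card {g : Isom Q // mat Q g *ᵥ a = a} ∣
    2 * Fintype.card F ^ 16 * ((Fintype.card F ^ 2 - 1) * (Fintype.card F ^ 4 - 1) * (Fintype.card F ^ 6 - 1))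
  perp : ∀ a, a ≠ 0 → Q a = 0 →
    Nat.card {x // Q x = 0 ∧ QuadraticMap.polar (⇑Q) a x = 0} ≤ Fintype.card F ^ 7

variable {c : Ext Q K}

namespace Fr

variable (f : Fr c) {M : Subgroup (Isom Q)}
include f

/-- The subspace of the line of `u`. -/
def line : Submodule F (ι → F) := (Submodule.span K {f.u}).restrictScalars F

theorem mem_line {x : ι → F} : x ∈ f.line ↔ ∃ k : K, k • f.u = x := by
  rw [line, Submodule.restrictScalars_mem, Submodule.mem_span_singleton]

theorem u_mem_line : f.u ∈ f.line := f.mem_line.2 ⟨1, one_smul _ _⟩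

theorem card_K : Nat.card K = Fintype.card F ^ 3 := by
  have := c.fdF
  rw [Module.natCard_eq_pow_finrank (K := F), c.deg, Nat.card_eq_fintype_card]

theorem finrank_line : finrank F f.line = 3 := by
  have h : finrank F ↥(Submodule.span K {f.u}) = 3 := by
    have := c.fdF
    have := Module.finrank_mul_finrank F K ↥(Submodule.span K {f.u})
    rw [c.deg, finrank_span_singleton f.u_ne] at this
    omega
  exact h

theorem quad_line {x : ι → F} (hx : x ∈ f.line) : Q x = 0 := by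
  obtain ⟨k, rfl⟩ := f.mem_line.1 hx
  exact c.quad_zero (by simp [f.huu])

theorem norm_of_fix (ov : Over K M) {g : Isom Q} (hg : g ∈ M) (h : g • f.line = f.line) : Norm K g :=
  f.norm_of_keep ov hg fun k => by
    obtain ⟨l, hl⟩ := f.mem_line.1 (h ▸ mulVec_mem_smul (g := g) (f.mem_line.2 ⟨k, rfl⟩) : mat Q g *ᵥ (k • f.u) ∈ f.line)
    exact ⟨l, hl.symm⟩

/-- A member normalising the field whose image of the line meets it keeps it. -/
theorem smul_line_of_norm {φ : Isom Q} (hφ : Norm K φ) {z : ι → F} (hz0 : z ≠ 0) (hz : z ∈ f.line)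
    (hz' : z ∈ φ • f.line) : φ • f.line = f.line := by
  have := c.finite
  obtain ⟨σ, hσ⟩ := exists_twist c hφ
  obtain ⟨k, rfl⟩ := f.mem_line.1 hz
  obtain ⟨l, hl⟩ := f.mem_line.1 (mem_smul.1 hz')
  have hk : k ≠ 0 := fun h => hz0 (by rw [h, zero_smul])
  have hl0 : σ l ≠ 0 := fun h => hz0 (by rw [← mulVec_inv_cancel φ (k • f.u), ← hl, hσ, h, zero_smul])
  have hu : mat Q φ *ᵥ f.u = ((σ l)⁻¹ * k) • f.u := by
    rw [mul_smul, eq_inv_smul_iff₀ hl0, ← hσ, hl, mulVec_inv_cancel]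
  refine Submodule.eq_of_le_of_finrank_le (fun x hx => ?_) (by rw [finrank_smul])
  obtain ⟨a, ha⟩ := f.mem_line.1 (mem_smul.1 hx)
  refine f.mem_line.2 ⟨σ a * ((σ l)⁻¹ * k), ?_⟩
  rw [mul_smul, ← hu, ← hσ, ha, mulVec_inv_cancel]

/-- The members of `M` commuting with the field and fixing `u`. -/
def uGroup (M : Subgroup (Isom Q)) : Subgroup (Isom Q) where
  carrier := {g | g ∈ M ∧ f.InU g}
  one_mem' := ⟨M.one_mem, lin_one, mulVec_one_apply _⟩
  mul_mem' {g g'} hg hg' := ⟨M.mul_mem hg.1 hg'.1, hg.2.1.mul hg'.2.1, by rw [mulVec_mul, hg'.2.2, hg.2.2]⟩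
  inv_mem' {g} hg := ⟨M.inv_mem hg.1, hg.2.1.inv, (mulVec_eq_iff g).1 (by rw [mulVec_inv_cancel, hg.2.2])⟩

theorem uGroup_fix {g : Isom Q} (hg : g ∈ f.uGroup M) {x : ι → F} (hx : x ∈ f.line) : mat Q g *ᵥ x = x := by
  obtain ⟨k, rfl⟩ := f.mem_line.1 hx
  rw [hg.2.1, hg.2.2]

theorem uGroup_smul {g : Isom Q} (hg : g ∈ f.uGroup M) : g • f.line = f.line := by
  refine Submodule.eq_of_le_of_finrank_le (fun x hx => ?_) (by rw [finrank_smul])
  have h := mem_smul.1 hx
  rw [← mulVec_inv_cancel g x, f.uGroup_fix hg h]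
  exact h

theorem exists_uGroup (ov : Over K M) (s : K) :
    ∃ g ∈ f.uGroup M, ∀ x, mat Q g *ᵥ x = c.eK f.u (s • f.e) x := by
  obtain ⟨g, hgM, hgl, -, hg⟩ := c.exists_eK ov.below f.huu (w := s • f.e) (by simp [f.hue])
  exact ⟨g, ⟨hgM, hgl, by rw [hg, c.eK_self f.huu (by simp [f.hue])]⟩, hg⟩

theorem card_uGroup (ov : Over K M) : Nat.card (f.uGroup M) = Fintype.card F ^ 3 := by
  choose g hg hga using f.exists_uGroup ov
  rw [← f.card_K]
  refine (Nat.card_eq_of_bijective (fun s => (⟨g s, hg s⟩ : f.uGroup M)) ⟨fun s s' e => ?_, fun x => ?_⟩).symm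
  · have e' := congrArg (fun w : f.uGroup M => c.h f.v (mat Q (w : Isom Q) *ᵥ f.e)) e
    simp [hga, Ext.eK_apply, f.hue, f.hve, f.hvu, f.ne] at e'
    exact e'
  · obtain ⟨s, hs, -⟩ := f.inU_spec (ov.le x.2.1) x.2.2
    exact ⟨s, Subtype.ext (isom_ext fun z => by rw [hga, hs])⟩

/-- The images of the line which contain `S`. -/
def Mem (M : Subgroup (Isom Q)) (S : Submodule F (ι → F)) (W : Submodule F (ι → F)) : Prop :=
  (∃ φ ∈ M, W = φ • f.line) ∧ S ≤ W

/-- Members other than the line are moved by every Eichler map. -/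
theorem eq_line_of_fixed (ov : Over K M) {g φ : Isom Q} (hg : g ∈ f.uGroup M) (hg1 : g ≠ 1) (hφ : φ ∈ M)
    {z : ι → F} (hz0 : z ≠ 0) (hz : z ∈ f.line) (hz' : z ∈ φ • f.line) (h : g • φ • f.line = φ • f.line) :
    φ • f.line = f.line :=
  f.smul_line_of_norm (f.norm_of_conj_inU ov hg.1 hg.2 hg1 hφ
    (f.norm_of_fix ov (M.mul_mem (M.mul_mem (M.inv_mem hφ) hg.1) hφ)
      (by rw [mul_smul, mul_smul, h, inv_smul_smul]))) hz0 hz hz'

/-- The members of `M` commuting with the field and scaling `u` by the ground field. -/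
def scaler (M : Subgroup (Isom Q)) : Subgroup (Isom Q) where
  carrier := {g | g ∈ M ∧ Lin K g ∧ ∃ γ : F, mat Q g *ᵥ f.u = γ • f.u}
  one_mem' := ⟨M.one_mem, lin_one, 1, by rw [mulVec_one_apply, one_smul]⟩
  mul_mem' {g g'} hg hg' := ⟨M.mul_mem hg.1 hg'.1, hg.2.1.mul hg'.2.1, by
    obtain ⟨γ, hγ⟩ := hg.2.2
    obtain ⟨γ', hγ'⟩ := hg'.2.2
    exact ⟨γ' * γ, by rw [mulVec_mul, hγ', mulVec_smul, hγ, smul_smul]⟩⟩
  inv_mem' {g} hg := ⟨M.inv_mem hg.1, hg.2.1.inv, by
    obtain ⟨γ, hγ⟩ := hg.2.2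
    have h0 : γ ≠ 0 := fun h => mulVec_ne_zero g f.u_ne (by rw [hγ, h, zero_smul])
    exact ⟨γ⁻¹, (mulVec_eq_iff g).1 (by rw [mulVec_inv_cancel, mulVec_smul, hγ, smul_smul, inv_mul_cancel₀ h0,
      one_smul])⟩⟩

theorem scaler_apply {g : Isom Q} (hg : g ∈ f.scaler M) {γ : F} (hγ : mat Q g *ᵥ f.u = γ • f.u) {x : ι → F}
    (hx : x ∈ f.line) : mat Q g *ᵥ x = γ • x := by
  obtain ⟨k, rfl⟩ := f.mem_line.1 hx
  rw [hg.2.1, hγ, smul_comm]

theorem scaler_smul_le {g : Isom Q} (hg : g ∈ f.scaler M) {S W : Submodule F (ι → F)} (hS : S ≤ f.line)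
    (hW : S ≤ W) : S ≤ g • W := fun x hx => by
  obtain ⟨γ, hγ⟩ := hg.2.2
  have h0 : γ ≠ 0 := fun h => mulVec_ne_zero g f.u_ne (by rw [hγ, h, zero_smul])
  have e : mat Q g⁻¹ *ᵥ x = γ⁻¹ • x := (mulVec_eq_iff g).1 (by
    rw [mulVec_inv_cancel, mulVec_smul, f.scaler_apply hg hγ (hS hx), smul_smul, inv_mul_cancel₀ h0, one_smul])
  exact mem_smul.2 (e ▸ W.smul_mem _ (hW hx))

theorem scaler_smul_line {g : Isom Q} (hg : g ∈ f.scaler M) : g • f.line = f.line :=
  (Submodule.eq_of_le_of_finrank_le (f.scaler_smul_le hg le_rfl le_rfl) (by rw [finrank_smul])).symm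

/-- The bound, from the tori. -/
theorem torus_dvd (ov : Over K M) {S : Submodule F (ι → F)} (hS : S ≤ f.line) (hS0 : S ≠ ⊥) :
    Fintype.card F ^ 3 * (Fintype.card F - 1) ∣ 4 * ({W | f.Mem M S W}.ncard - 1) := by
  classical
  obtain ⟨z, hzS, hz0⟩ := Submodule.exists_mem_ne_zero_of_ne_bot hS0
  let A := f.scaler M
  let X : SubMulAction A (Submodule F (ι → F)) :=
    { carrier := {W | f.Mem M S W} \ {f.line}
      smul_mem' := by
        rintro ⟨g, hg⟩ W ⟨⟨⟨φ, hφ, rfl⟩, hSW⟩, hne⟩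
        refine ⟨⟨⟨g * φ, M.mul_mem hg.1 hφ, (mul_smul g φ f.line).symm⟩, f.scaler_smul_le hg hS hSW⟩,
          fun e => hne ?_⟩
        have e' : g • φ • f.line = f.line := e
        show φ • f.line = f.line
        rw [← inv_smul_smul g (φ • f.line), e', f.scaler_smul_line (M := M) ((f.scaler M).inv_mem hg)] }
  choose γ hγ using fun g : A => g.2.2.2
  have hγ0 : ∀ g : A, γ g ≠ 0 := fun g h => mulVec_ne_zero (g : Isom Q) f.u_ne (by rw [hγ, h, zero_smul])
  let χ : A →* Fˣ :=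
    { toFun := fun g => Units.mk0 (γ g) (hγ0 g)
      map_one' := Units.ext (smul_left_injective F f.u_ne (show γ 1 • f.u = (1 : F) • f.u by
        rw [← hγ, one_smul, OneMemClass.coe_one, mulVec_one_apply]))
      map_mul' := fun g g' => Units.ext (smul_left_injective F f.u_ne (show γ (g * g') • f.u = (γ g * γ g') • f.u by
        rw [← hγ, Subgroup.coe_mul, mulVec_mul, hγ, mulVec_smul, hγ, smul_smul, mul_comm])) }
  have hker : ∀ g : A, χ g = 1 ↔ (g : Isom Q) ∈ f.uGroup M := fun g => by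
    constructor
    · intro h
      refine ⟨g.2.1, g.2.2.1, ?_⟩
      rw [hγ, show γ g = 1 from congrArg Units.val h, one_smul]
    · intro h
      exact Units.ext (smul_left_injective F f.u_ne (show γ g • f.u = (1 : F) • f.u by rw [← hγ, h.2.2, one_smul]))
  let sq : Fˣ →* Fˣ := powMonoidHom 2
  have hsqker : ∀ a : Fˣ, sq a = 1 → a = 1 ∨ a = -1 := fun a h => by
    rcases sq_eq_one_iff.1 (show (a : F) ^ 2 = 1 from congrArg Units.val h) with h | h
    · exact Or.inl (Units.ext h)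
    · exact Or.inr (Units.ext h)
  have hker2 : Nat.card sq.ker = 2 := by
    have e : (sq.ker : Set Fˣ) = {1, -1} := by
      ext a
      refine ⟨hsqker a, ?_⟩
      rintro (rfl | rfl) <;> simp [sq]
    rw [← SetLike.coe_sort_coe, e, Nat.card_coe_set_eq, Set.ncard_pair]
    intro h
    have h' : (1 : F) = -1 := congrArg Units.val h
    exact c.two (by linear_combination h')
  have hsq : sq.range ≤ χ.range := by
    rintro _ ⟨a, rfl⟩
    obtain ⟨t, htM, -, ht⟩ := c.exists_tor ov.below f.pair (l := algebraMap F K (a : F)) (by simp)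
    have htu : mat Q t *ᵥ f.u = ((a : F) * a) • f.u := by
      have := ht.apply_left c f.pair 1
      rw [one_smul, mul_one, ← map_mul, algebraMap_smul] at this
      exact this
    refine ⟨⟨t, htM, ht.lin c, _, htu⟩, Units.ext ?_⟩
    refine smul_left_injective F f.u_ne (show γ ⟨t, htM, ht.lin c, _, htu⟩ • f.u = ((a : F) ^ 2) • f.u from ?_)
    rw [← hγ, pow_two]
    exact htu
  have hA : Fintype.card F ^ 3 * (Fintype.card F - 1) ∣ 2 * Nat.card A := by
    have h1 := χ.ker.card_mul_index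
    rw [Subgroup.index_ker] at h1
    have h2 : Nat.card χ.ker = Fintype.card F ^ 3 := by
      rw [← f.card_uGroup ov]
      exact Nat.card_congr
        { toFun := fun g => ⟨(g.1 : Isom Q), (hker g.1).1 (MonoidHom.mem_ker.1 g.2)⟩
          invFun := fun g => ⟨⟨g.1, g.2.1, g.2.2.1, 1, by rw [g.2.2.2, one_smul]⟩,
            MonoidHom.mem_ker.2 ((hker _).2 g.2)⟩
          left_inv := fun g => rfl
          right_inv := fun g => rfl }
    have h3 : Fintype.card F - 1 ∣ 2 * Nat.card χ.range := by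
      have e := sq.ker.card_mul_index
      rw [Subgroup.index_ker, hker2, Nat.card_units, Nat.card_eq_fintype_card (α := F)] at e
      rw [← e]
      exact Nat.mul_dvd_mul_left 2 (Subgroup.card_dvd_of_le hsq)
    rw [h2] at h1
    rw [← h1, mul_left_comm]
    exact Nat.mul_dvd_mul_left _ h3
  have hstab : ∀ W : X, Nat.card (MulAction.stabilizer A W) ∣ 2 := by
    rintro ⟨W, ⟨⟨φ, hφ, rfl⟩, hSW⟩, hne⟩
    have hfix : ∀ g ∈ MulAction.stabilizer A (⟨φ • f.line, ⟨⟨φ, hφ, rfl⟩, hSW⟩, hne⟩ : X),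
        (g : Isom Q) • φ • f.line = φ • f.line := fun g hg => congrArg Subtype.val hg
    let ψ := χ.domRestrict (MulAction.stabilizer A (⟨φ • f.line, ⟨⟨φ, hφ, rfl⟩, hSW⟩, hne⟩ : X))
    have hinj : Function.Injective ψ := by
      rw [← MonoidHom.ker_eq_bot_iff, Subgroup.eq_bot_iff_forall]
      rintro ⟨g, hg⟩ he
      by_contra hg1
      refine hne (f.eq_line_of_fixed ov ((hker g).1 (MonoidHom.mem_ker.1 he)) ?_ hφ hz0 (hS hzS) (hSW hzS) (hfix g hg))
      exact fun e => hg1 (Subtype.ext (Subtype.ext e))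
    have hle : ψ.range ≤ sq.ker := by
      rintro _ ⟨⟨g, hg⟩, rfl⟩
      rw [MonoidHom.mem_ker]
      by_contra h
      refine hne (f.smul_line_of_norm ?_ hz0 (hS hzS) (hSW hzS))
      refine f.norm_of_conj_scale ov g.2.1 g.2.2.1 (hγ g) (fun e => h (Units.ext ?_)) hφ
        (f.norm_of_fix ov (M.mul_mem (M.mul_mem (M.inv_mem hφ) g.2.1) hφ)
          (by rw [mul_smul, mul_smul, hfix g hg, inv_smul_smul]))
      show (γ g : F) ^ 2 = 1
      rw [pow_two, e]
    rw [← hker2]
    exact (Nat.card_congr (MonoidHom.ofInjective hinj).toEquiv).symm ▸ Subgroup.card_dvd_of_le hle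
  have hX := card_dvd_of_stabilizer hstab
  have hmem : f.line ∈ {W | f.Mem M S W} := ⟨⟨1, M.one_mem, (one_smul _ _).symm⟩, hS⟩
  rw [show Nat.card X = ({W | f.Mem M S W} \ {f.line}).ncard from Nat.card_coe_set_eq _,
    Set.ncard_sdiff_singleton_of_mem hmem] at hX
  refine hA.trans ?_
  rw [show 4 * ({W | f.Mem M S W}.ncard - 1) = 2 * (2 * ({W | f.Mem M S W}.ncard - 1)) by ring]
  exact Nat.mul_dvd_mul_left 2 hX

/-- A subspace of the line is contained in one member only, if in few. -/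
theorem ncard_mem_eq_one (ov : Over K M) (cn : Counts Q) {S : Submodule F (ι → F)} (hS : S ≤ f.line)
    (hS0 : S ≠ ⊥) (hb : {W | f.Mem M S W}.ncard * (Fintype.card F - 1) ≤ Fintype.card F ^ 5) :
    {W | f.Mem M S W}.ncard = 1 := by
  classical
  obtain ⟨q, hq⟩ : ∃ q, q = Fintype.card F := ⟨_, rfl⟩
  have hodd : Odd q := by
    rw [hq]
    refine Nat.odd_iff.2 (Nat.mod_two_ne_zero.1 fun h => c.two ?_)
    have h2 : CharP F 2 := ringChar.of_eq (FiniteField.even_card_iff_char_two.2 h)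
    exact CharP.cast_eq_zero F 2
  have hq3 : 3 ≤ q := by
    have h1 : 1 < q := hq ▸ Fintype.one_lt_card
    obtain ⟨t, ht⟩ := hodd
    omega
  obtain ⟨z, hzS, hz0⟩ := Submodule.exists_mem_ne_zero_of_ne_bot hS0
  let T : Subgroup (Isom Q) := M ⊓ fixer Q S
  have hTfix : ∀ {g : Isom Q}, g ∈ T → ∀ {W : Submodule F (ι → F)}, S ≤ W → S ≤ g • W := fun hg W hW x hx =>
    mem_smul.2 (by rw [(fixer Q S).inv_mem hg.2 x hx]; exact hW hx)
  let X : SubMulAction T (Submodule F (ι → F)) :=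
    { carrier := {W | f.Mem M S W}
      smul_mem' := by
        rintro ⟨g, hg⟩ W ⟨⟨φ, hφ, rfl⟩, hSW⟩
        exact ⟨⟨g * φ, M.mul_mem hg.1 hφ, (mul_smul g φ f.line).symm⟩, hTfix hg hSW⟩ }
  have hcard : Nat.card X = {W | f.Mem M S W}.ncard := Nat.card_coe_set_eq _
  let a : X := ⟨f.line, ⟨1, M.one_mem, (one_smul _ _).symm⟩, hS⟩
  have hUT : ∀ {g}, g ∈ f.uGroup M → g ∈ T := fun hg => ⟨hg.1, fun x hx => f.uGroup_fix hg (hS hx)⟩
  have hfreeall : ∀ b : X, HasFree T (q ^ 3) b := by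
    rintro ⟨W, ⟨φ, hφ, rfl⟩, hSW⟩
    let V : Subgroup (Isom Q) := (f.uGroup M).map (MulAut.conj φ).toMonoidHom
    have hVT : V ≤ T := by
      rintro _ ⟨g, hg, rfl⟩
      refine ⟨M.mul_mem (M.mul_mem hφ hg.1) (M.inv_mem hφ), fun x hx => ?_⟩
      show mat Q (φ * g * φ⁻¹) *ᵥ x = x
      rw [mulVec_mul, mulVec_mul, f.uGroup_fix hg (mem_smul.1 (hSW hx)), mulVec_inv_cancel]
    refine ⟨V.subgroupOf T, ?_, ?_, ?_⟩
    · rw [Nat.card_congr (Subgroup.subgroupOfEquivOfLe hVT).toEquiv, hq, ← f.card_uGroup ov,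
        ← Nat.card_congr ((f.uGroup M).equivMapOfInjective (MulAut.conj φ).toMonoidHom (MulEquiv.injective _)).toEquiv]
    · rintro v hv
      obtain ⟨g, hg, e⟩ := Subgroup.mem_subgroupOf.1 hv
      refine Subtype.ext ?_
      show (v : Isom Q) • φ • f.line = φ • f.line
      rw [← e]
      show (φ * g * φ⁻¹) • φ • f.line = φ • f.line
      rw [mul_smul, inv_smul_smul, mul_smul, f.uGroup_smul hg]
    · rintro v hv hv1 ⟨W', ⟨φ', hφ', rfl⟩, hSW'⟩ hx
      obtain ⟨g, hg, e⟩ := Subgroup.mem_subgroupOf.1 hv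
      have hx' : (v : Isom Q) • φ' • f.line = φ' • f.line := congrArg Subtype.val hx
      rw [← e] at hx'
      have hg1 : g ≠ 1 := fun h => hv1 (Subtype.ext (by rw [← e, h]; simp))
      have hgφ : g • (φ⁻¹ * φ') • f.line = (φ⁻¹ * φ') • f.line := by
        rw [mul_smul]
        conv_rhs => rw [← hx']
        show _ = φ⁻¹ • (φ * g * φ⁻¹) • φ' • f.line
        rw [mul_smul (φ * g), mul_smul φ, inv_smul_smul]
      refine Subtype.ext ?_
      have h := f.eq_line_of_fixed ov hg hg1 (M.mul_mem (M.inv_mem hφ) hφ') (z := mat Q φ⁻¹ *ᵥ z)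
        (mulVec_ne_zero _ hz0) (mem_smul.1 (hSW hzS)) (by rw [mul_smul]; exact mulVec_mem_smul (hSW' hzS)) hgφ
      show φ' • f.line = φ • f.line
      conv_rhs => rw [← h]
      rw [mul_smul, smul_inv_smul]
  have hn1 : q ^ 3 ≠ 1 := by
    have : 2 ^ 3 ≤ q ^ 3 := by gcongr; omega
    omega
  obtain ⟨htr, hmod⟩ := transitive_of_free hn1 hfreeall a
  rw [hcard] at hmod
  by_contra hne
  have hpos : 0 < Nat.card X := by
    have : Nonempty X := ⟨a⟩
    exact Nat.card_pos
  rw [hcard] at hpos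
  have hdvd : {W | f.Mem M S W}.ncard ∣
      2 * q ^ 16 * ((q ^ 2 - 1) * (q ^ 4 - 1) * (q ^ 6 - 1)) := by
    have hG := card_of_transitive a htr
    rw [hcard] at hG
    let St : Subgroup (Isom Q) :=
      { carrier := {g | mat Q g *ᵥ z = z}
        one_mem' := mulVec_one_apply z
        mul_mem' := fun {g g'} hg hg' => by
          show mat Q (g * g') *ᵥ z = z
          rw [mulVec_mul, show mat Q g' *ᵥ z = z from hg', show mat Q g *ᵥ z = z from hg]
        inv_mem' := fun {g} hg => (mulVec_eq_iff g).1 (by rw [mulVec_inv_cancel]; exact hg.symm) }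
    have hTSt : T ≤ St := fun g hg => hg.2 z hzS
    exact (Dvd.intro _ hG.symm).trans ((Subgroup.card_dvd_of_le hTSt).trans
      (hq ▸ cn.stab z hz0 (f.quad_line (hS hzS))))
  have hcases := degree_cases hq3 hodd (by omega) hmod (hq ▸ f.torus_dvd ov hS hS0) (hq ▸ hb) hdvd
  -- the stabiliser of the line
  let U : Subgroup T := (f.uGroup M).subgroupOf T
  have hUle : U ≤ MulAction.stabilizer T a := fun g hg =>
    Subtype.ext (f.uGroup_smul (Subgroup.mem_subgroupOf.1 hg))
  have hUc : Nat.card U = q ^ 3 := by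
    rw [Nat.card_congr (Subgroup.subgroupOfEquivOfLe (fun g hg => hUT hg)).toEquiv, f.card_uGroup ov, hq]
  have hTa : ∀ g : MulAction.stabilizer T a, Norm K ((g : T) : Isom Q) := fun g =>
    f.norm_of_fix ov (g : T).2.1 (congrArg Subtype.val g.2)
  choose σ hσ using fun g : MulAction.stabilizer T a => exists_twist c (hTa g)
  have huniq : ∀ (g : MulAction.stabilizer T a) (τ : K ≃ₐ[F] K),
      (∀ (k : K) x, mat Q ((g : T) : Isom Q) *ᵥ (k • x) = τ k • (mat Q ((g : T) : Isom Q) *ᵥ x)) → σ g = τ :=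
    fun g τ h => AlgEquiv.ext fun k =>
      smul_left_injective K (mulVec_ne_zero ((g : T) : Isom Q) f.u_ne) ((hσ g k f.u).symm.trans (h k f.u))
  let tw : MulAction.stabilizer T a →* (K ≃ₐ[F] K) :=
    { toFun := σ
      map_one' := huniq 1 1 fun k x => by
        simp only [OneMemClass.coe_one, mulVec_one_apply]; rfl
      map_mul' := fun g g' => huniq _ _ fun k x => by
        simp only [Subgroup.coe_mul, mulVec_mul, hσ]; rfl }
  have hlinU : ∀ g : MulAction.stabilizer T a, Lin K ((g : T) : Isom Q) → (g : T) ∈ U := fun g hl => by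
    refine Subgroup.mem_subgroupOf.2 ⟨(g : T).2.1, hl, ?_⟩
    obtain ⟨k, hk⟩ := f.mem_line.1 (hS hzS)
    have hk0 : k ≠ 0 := fun h => hz0 (by rw [← hk, h, zero_smul])
    have e := (g : T).2.2 z hzS
    rw [← hk, hl] at e
    exact smul_right_injective (ι → F) hk0 e
  have hkerc : Nat.card tw.ker = q ^ 3 := by
    rw [← hUc]
    exact Nat.card_congr
      { toFun := fun g => ⟨(g.1 : T), hlinU g.1 fun k x => by
          rw [hσ, show σ g.1 = 1 from MonoidHom.mem_ker.1 g.2]; rfl⟩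
        invFun := fun g => ⟨⟨g.1, hUle g.2⟩, MonoidHom.mem_ker.2 (huniq _ 1 fun k x =>
          (Subgroup.mem_subgroupOf.1 g.2).2.1 k x)⟩
        left_inv := fun g => rfl
        right_inv := fun g => rfl }
  have hst : Nat.card (MulAction.stabilizer T a) = q ^ 3 ∨ Nat.card (MulAction.stabilizer T a) = 3 * q ^ 3 := by
    have h1 := tw.ker.card_mul_index
    rw [Subgroup.index_ker, hkerc] at h1
    have := c.finite
    have := c.fdF
    have h3 : Nat.card tw.range ∣ 3 := by
      refine tw.range.card_subgroup_dvd_card.trans ?_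
      rw [IsGalois.card_aut_eq_finrank, c.deg]
    rcases (Nat.dvd_prime Nat.prime_three).1 h3 with h | h <;> rw [h] at h1
    · left; omega
    · right; omega
  rcases hcases with ⟨h3, hk⟩ | ⟨h5, hk⟩
  · subst h3
    obtain ⟨p, hchar⟩ := CharP.exists F
    refine false_of_twentyeight a htr (hcard.trans hk) U hUle (hUc.trans (by norm_num)) ?_ ?_
      (hst.imp (fun h => h.trans (by norm_num)) (fun h => h.trans (by norm_num))) ?_
    · rintro v hv hv1 ⟨W, ⟨φ, hφ, rfl⟩, hSW⟩ hx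
      refine Subtype.ext (f.eq_line_of_fixed ov (Subgroup.mem_subgroupOf.1 hv) (fun e => hv1 (Subtype.ext e)) hφ hz0
        (hS hzS) (hSW hzS) (congrArg Subtype.val hx))
    · intro s hs v hv
      refine hlinU ⟨s * v * s⁻¹, mul_mem (mul_mem hs (hUle hv)) (inv_mem hs)⟩ fun k x => ?_
      have hvk : tw ⟨v, hUle hv⟩ = 1 := huniq _ 1 fun k x => (Subgroup.mem_subgroupOf.1 hv).2.1 k x
      have e : tw ⟨s * v * s⁻¹, mul_mem (mul_mem hs (hUle hv)) (inv_mem hs)⟩ = 1 := by
        rw [show (⟨s * v * s⁻¹, mul_mem (mul_mem hs (hUle hv)) (inv_mem hs)⟩ : MulAction.stabilizer T a) =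
          ⟨s, hs⟩ * ⟨v, hUle hv⟩ * ⟨s, hs⟩⁻¹ from rfl, map_mul, map_mul, hvk, mul_one, ← map_mul, mul_inv_cancel,
          map_one]
      rw [hσ, show σ _ = 1 from e]
      rfl
    · intro x hx hxU
      by_contra hall
      push Not at hall
      have hnl : ¬ Lin K (x : Isom Q) := fun h => hxU (hlinU ⟨x, hx⟩ h)
      obtain ⟨τ, hτ⟩ := exists_twist c (hTa ⟨x, hx⟩)
      obtain ⟨a', ha'⟩ := f.mem_line.1 (show mat Q (x : Isom Q) *ᵥ f.u ∈ f.line by
        have h := mulVec_mem_smul (g := (x : Isom Q)) f.u_mem_line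
        rwa [show (x : Isom Q) • f.line = f.line from congrArg Subtype.val hx] at h)
      have hue : c.h f.u (mat Q (x : Isom Q) *ᵥ f.e) = 0 := by
        have ha0 : a' ≠ 0 := fun h => mulVec_ne_zero (x : Isom Q) f.u_ne (by rw [← ha', h, zero_smul])
        have := h_twist c hτ f.u f.e
        rw [← ha', LinearMap.map_smul₂, f.hue, map_zero, smul_eq_mul] at this
        exact (mul_eq_zero.1 this).resolve_left ha0
      have key : ∀ s : K, τ (s * c.h f.e f.e) * a' = s * c.h f.e (mat Q (x : Isom Q) *ᵥ f.e) := by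
        intro s
        obtain ⟨g, hg, hga⟩ := f.exists_uGroup ov s
        have e := congrArg (fun w : T => c.h f.v (mat Q (w : Isom Q) *ᵥ f.e))
          (hall ⟨g, hUT hg⟩ (Subgroup.mem_subgroupOf.2 hg))
        simp [mulVec_mul, hga, Ext.eK_apply, f.hue, hue, mulVec_add, mulVec_neg,
          show ∀ (k : K) y, mat Q (x : Isom Q) *ᵥ (k • y) = τ k • mat Q (x : Isom Q) *ᵥ y from hτ, ← ha', f.hvu] at e
        rw [map_mul]
        linear_combination e
      refine hnl fun k y => ?_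
      have h1 := key (c.h f.e f.e)⁻¹
      rw [inv_mul_cancel₀ f.ne, map_one, one_mul] at h1
      have h2 := key (k * (c.h f.e f.e)⁻¹)
      rw [inv_mul_cancel_right₀ f.ne, mul_assoc, ← h1] at h2
      have ha0 : a' ≠ 0 := fun h => mulVec_ne_zero (x : Isom Q) f.u_ne (by rw [← ha', h, zero_smul])
      rw [hτ, mul_right_cancel₀ ha0 h2]
  · subst h5
    refine false_of_twice_odd hn1 (by decide) hfreeall a ?_ (m := 63) (by decide) (hcard.trans hk)
    rcases hst with h | h <;> rw [h] <;> decide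

end Fr

end CfsgLib.OrthExtThree
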