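import Cfsg.Agent.OrthExtThree.Final
import Cfsg.Agent.Forms4.OrthogonalOrders
import Cfsg.Agent.Forms.Witt
import Cfsg.Agent.ExtField.Bridge

/-!
# Orders and counts in `O₉(q)`
-/

set_option autoImplicit false
set_option linter.unusedSectionVars false

namespace CfsgLib.OrthExtThree

open Matrix Module CfsgLib.Spinor CfsgLib.OrthMax CfsgLib.OrthExtR

variable {F : Type*} [Field F] {ι : Type} [Fintype ι] [DecidableEq ι]
  {Q : QuadraticForm F (ι → F)}

/-- Isometries are transitive on the non-zero singular vectors. -/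
theorem exists_map_singular (hQ : (QuadraticMap.polarBilin Q).Nondegenerate) {a b : ι → F} (ha : a ≠ 0)
    (hqa : Q a = 0) (hb : b ≠ 0) (hqb : Q b = 0) : ∃ g : Isom Q, mat Q g *ᵥ a = b := by
  obtain ⟨e, he, hea⟩ := Forms.witt_quadratic Q hQ (Submodule.span F {a}) (Submodule.span F {b})
    ((LinearEquiv.toSpanNonzeroSingleton F (ι → F) a ha).symm.trans
      (LinearEquiv.toSpanNonzeroSingleton F (ι → F) b hb)) (fun x => by
      obtain ⟨t, ht⟩ := Submodule.mem_span_singleton.1 x.2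
      obtain ⟨t', ht'⟩ := Submodule.mem_span_singleton.1
        (((LinearEquiv.toSpanNonzeroSingleton F (ι → F) a ha).symm.trans
          (LinearEquiv.toSpanNonzeroSingleton F (ι → F) b hb)) x).2
      rw [← ht, ← ht', QuadraticMap.map_smul, QuadraticMap.map_smul, hqa, hqb, smul_zero, smul_zero])
  obtain ⟨g, hg⟩ := (ExtField.glAut : GL ι F ≃* _).surjective e
  have hgv : ∀ x, (g : Matrix ι ι F) *ᵥ x = e x := fun x => by rw [← ExtField.glAut_apply, hg]
  refine ⟨⟨g, fun x _ => (congrArg Q (hgv x)).trans (he x)⟩, ?_⟩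
  show (g : Matrix ι ι F) *ᵥ a = b
  rw [hgv, hea ⟨a, Submodule.mem_span_singleton_self a⟩, LinearEquiv.trans_apply,
    show (⟨a, Submodule.mem_span_singleton_self a⟩ : Submodule.span F {a}) =
      LinearEquiv.toSpanNonzeroSingleton F (ι → F) a ha 1 from (LinearEquiv.toSpanNonzeroSingleton_one F _ a ha).symm,
    LinearEquiv.symm_apply_apply, LinearEquiv.toSpanNonzeroSingleton_one]

/-- Orbit and stabiliser of a singular vector. -/
theorem card_stab_mul [Fintype F] (hQ : (QuadraticMap.polarBilin Q).Nondegenerate) {a : ι → F} (ha : a ≠ 0)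
    (hqa : Q a = 0) : Nat.card {b : ι → F // Q b = 0 ∧ b ≠ 0} * Nat.card {g : Isom Q // mat Q g *ᵥ a = a} =
      Nat.card (Isom Q) := by
  classical
  let π : Isom Q → {b : ι → F // Q b = 0 ∧ b ≠ 0} := fun g =>
    ⟨mat Q g *ᵥ a, by rw [quad_mulVec, hqa], mulVec_ne_zero g ha⟩
  have hfib : ∀ b, Nat.card {g // π g = b} = Nat.card {g : Isom Q // mat Q g *ᵥ a = a} := by
    rintro ⟨b, hqb, hb⟩
    obtain ⟨g, hg⟩ := exists_map_singular hQ ha hqa hb hqb
    refine Nat.card_congr ((Equiv.mulLeft g⁻¹).subtypeEquiv fun x => ?_)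
    rw [Equiv.coe_mulLeft, mulVec_mul, ← mulVec_eq_iff g, mulVec_inv_cancel, hg]
    exact Subtype.ext_iff
  rw [← Nat.card_congr (Equiv.sigmaFiberEquiv π), Nat.card_sigma, Finset.sum_congr rfl fun b _ => hfib b,
    Finset.sum_const, Finset.card_univ, smul_eq_mul, Nat.card_eq_fintype_card]

theorem polar_single (a : F) (i : Fin 4) (x : Unit ⊕ (Fin 4 ⊕ Fin 4) → F) :
    QuadraticMap.polar (Cfsg.quadFormOdd 4 F) (Pi.single (Sum.inr (Sum.inl i)) a) x =
      a * x (Sum.inr (Sum.inr i)) := by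
  simp only [QuadraticMap.polar, Cfsg.quadFormOdd, Pi.add_apply, Pi.single_apply, Sum.inr.injEq, Sum.inl.injEq,
    reduceCtorEq, if_false, zero_add, add_mul, Finset.sum_add_distrib, mul_zero, Finset.sum_const_zero, ite_mul,
    zero_mul, Finset.sum_ite_eq', Finset.mem_univ, if_true]
  ring

/-- The counts for `O₉(q)`. -/
theorem counts_nine [Fintype F] {Q : QuadraticForm F (Unit ⊕ (Fin 4 ⊕ Fin 4) → F)}
    (hQ : (QuadraticMap.polarBilin Q).Nondegenerate) (hcoe : ⇑Q = Cfsg.quadFormOdd 4 F)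
    (hodd : Odd (Fintype.card F)) : Counts Q := by
  classical
  obtain ⟨q, hq⟩ : ∃ q, Fintype.card F = q := ⟨_, rfl⟩
  have hz : Nat.card {v : Unit ⊕ (Fin 4 ⊕ Fin 4) → F // Q v = 0} = q ^ 8 := by
    rw [hcoe]; exact Forms4.card_zero_quadFormOdd hq 4
  refine ⟨rfl, fun a ha hqa => ?_, fun a ha hqa => ?_⟩
  · have h := card_stab_mul hQ ha hqa
    have hG : Nat.card (Isom Q) = 2 * q ^ 16 * ((q ^ 2 - 1) * (q ^ 4 - 1) * (q ^ 6 - 1) * (q ^ 8 - 1)) := by
      show Nat.card (Cfsg.isometryGroup F ⇑Q) = _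
      rw [hcoe, Forms4.card_isometryGroup_quadFormOdd hq (hq ▸ hodd)]
      simp [Finset.prod_range_succ]
    have hb : Nat.card {b : Unit ⊕ (Fin 4 ⊕ Fin 4) → F // Q b = 0 ∧ b ≠ 0} = q ^ 8 - 1 := by
      rw [← hz, Nat.card_eq_fintype_card, Nat.card_eq_fintype_card, Fintype.card_subtype, Fintype.card_subtype,
        ← Finset.card_erase_of_mem (a := (0 : Unit ⊕ (Fin 4 ⊕ Fin 4) → F))
          (Finset.mem_filter.2 ⟨Finset.mem_univ _, QuadraticMap.map_zero Q⟩)]
      congr 1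
      ext b
      simp [and_comm]
    rw [hG, hb, show 2 * q ^ 16 * ((q ^ 2 - 1) * (q ^ 4 - 1) * (q ^ 6 - 1) * (q ^ 8 - 1)) =
      (q ^ 8 - 1) * (2 * q ^ 16 * ((q ^ 2 - 1) * (q ^ 4 - 1) * (q ^ 6 - 1))) by ring] at h
    have hpos : 0 < q ^ 8 - 1 := by
      have : 1 < q ^ 8 := Nat.one_lt_pow (by norm_num) (hq ▸ Fintype.one_lt_card)
      omega
    rw [Nat.eq_of_mul_eq_mul_left hpos h, hq]
  · obtain ⟨e, he⟩ : ∃ e : Unit ⊕ (Fin 4 ⊕ Fin 4) → F, e = Pi.single (Sum.inr (Sum.inl (Fin.last 3))) 1 := ⟨_, rfl⟩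
    have he0 : e ≠ 0 := fun h => one_ne_zero (α := F) (by
      have := congrFun h (Sum.inr (Sum.inl (Fin.last 3)))
      simp [he] at this)
    have hqe : Q e = 0 := by simp [hcoe, he, Cfsg.quadFormOdd]
    obtain ⟨g, hg⟩ := exists_map_singular hQ ha hqa he0 hqe
    have hlast : ∀ w, QuadraticMap.polar (⇑Q) e w = 0 → w (Sum.inr (Sum.inr (Fin.last 3))) = 0 := fun w h => by
      rwa [hcoe, he, polar_single, one_mul] at h
    have hres : ∀ w, QuadraticMap.polar (⇑Q) e w = 0 → Q w = 0 →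
        Cfsg.quadFormOdd 3 F (w ∘ Sum.map id (Sum.map Fin.castSucc Fin.castSucc)) = 0 := fun w h h' => by
      rw [hcoe, Cfsg.quadFormOdd, Fin.sum_univ_castSucc, hlast w h, mul_zero, add_zero] at h'
      exact h'
    let ψ : {x : Unit ⊕ (Fin 4 ⊕ Fin 4) → F // Q x = 0 ∧ QuadraticMap.polar (⇑Q) a x = 0} →
        F × {v : Unit ⊕ (Fin 3 ⊕ Fin 3) → F // Cfsg.quadFormOdd 3 F v = 0} := fun x =>
      ((mat Q g *ᵥ (x : Unit ⊕ (Fin 4 ⊕ Fin 4) → F)) (Sum.inr (Sum.inl (Fin.last 3))),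
        ⟨(mat Q g *ᵥ (x : Unit ⊕ (Fin 4 ⊕ Fin 4) → F)) ∘ Sum.map id (Sum.map Fin.castSucc Fin.castSucc), by
          refine hres _ (by rw [← hg, polar_mulVec]; exact x.2.2) ((quad_mulVec Q g _).trans x.2.1)⟩)
    have hinj : Function.Injective ψ := by
      intro x y h
      obtain ⟨h1, h2⟩ := Prod.ext_iff.1 h
      have h0 : ∀ z : {x : Unit ⊕ (Fin 4 ⊕ Fin 4) → F // Q x = 0 ∧ QuadraticMap.polar (⇑Q) a x = 0},
          (mat Q g *ᵥ (z : Unit ⊕ (Fin 4 ⊕ Fin 4) → F)) (Sum.inr (Sum.inr (Fin.last 3))) = 0 := fun z => by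
        exact hlast _ (by rw [← hg, polar_mulVec]; exact z.2.2)
      refine Subtype.ext ((mulVec_eq_iff g).1 (funext fun i => ?_))
      have hv := congrArg Subtype.val h2
      rcases i with u | i | i
      · exact congrFun hv (Sum.inl u)
      · induction i using Fin.lastCases with
        | last => exact h1
        | cast i => exact congrFun hv (Sum.inr (Sum.inl i))
      · induction i using Fin.lastCases with
        | last => rw [h0, h0]
        | cast i => exact congrFun hv (Sum.inr (Sum.inr i))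
    have h := Nat.card_le_card_of_injective ψ hinj
    rw [Nat.card_prod, Forms4.card_zero_quadFormOdd hq 3, Nat.card_eq_fintype_card (α := F), hq] at h
    rw [hq]
    exact h.trans_eq (by ring)

end CfsgLib.OrthExtThree
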