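import Cfsg.Agent.OrthExtR.Roots

/-!
# The normaliser of the field does not contain `Ω`
-/

set_option autoImplicit false
set_option linter.unusedSectionVars false
set_option maxHeartbeats 1000000

namespace CfsgLib.OrthExtThree

open Matrix Module CfsgLib.Spinor CfsgLib.OrthMax CfsgLib.OrthExtR

variable {F : Type*} [Field F] [Fintype F] {ι : Type} [Fintype ι] [DecidableEq ι]
  {Q : QuadraticForm F (ι → F)}
variable {K : Type*} [Field K] [Algebra F K] [Module K (ι → F)] [IsScalarTower F K (ι → F)]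

/-- A member of `Ω` outside the normaliser. -/
theorem exists_omega_not_norm (c : Ext Q K) : ∃ g ∈ Cfsg.Omega F ⇑Q, ¬ Norm K g := by
  have := c.fdF
  obtain ⟨u, v, hp⟩ := c.exists_pair
  obtain ⟨σ, hσ⟩ := c.exists_aut
  obtain ⟨r, hr⟩ := c.exists_acts hp.1 (c.skewMap_isSkew σ (2 : K)⁻¹)
  refine ⟨r * r, mul_self_mem_omega c.two c.nondeg r, fun hn => hσ (AlgEquiv.ext fun k => ?_)⟩
  have h2 := c.two'
  have hrr : c.Acts u (skewMap σ 1) (r * r) := fun x => by
    rw [mat_mul, ← mulVec_mulVec, hr, hr]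
    simp only [map_add, map_smul, smul_eq_mul, hp.1, mul_zero, add_zero, skewMap_apply]
    rw [add_assoc, ← add_smul]
    congr 2
    have hhalf : (2 : K)⁻¹ = algebraMap F K (2 : F)⁻¹ := by rw [map_inv₀, map_ofNat]
    rw [hhalf, one_mul, one_mul, ← Algebra.smul_def, ← Algebra.smul_def, map_smul, ← add_smul_two c.two]
  obtain ⟨w, hw, hw0⟩ := hp.exists_rest
  have hl : Lin K (r * r) := by
    intro k x
    obtain ⟨k', hk'⟩ := hn k
    have h1 := hk' w
    have hkw : c.h u (k • w) = 0 := by rw [map_smul, hw.1, smul_zero]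
    rw [hrr, hrr, hkw, hw.1, map_zero, zero_smul, add_zero, add_zero] at h1
    rw [hk', ← smul_left_injective K hw0 h1]
  -- a linear skew map vanishes
  have hT : ∀ k, skewMap σ 1 k = k * skewMap σ 1 1 := by
    intro k
    refine smul_left_injective K hp.left_ne ?_
    have := hl k v
    rw [hrr, hrr, map_smul, hp.2.2, smul_eq_mul, mul_one, smul_add, add_right_inj, ← mul_smul] at this
    exact this
  have := hT k
  simp only [skewMap_apply, map_one, one_mul, sub_self, mul_zero, sub_eq_zero] at this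
  have h3 : σ (σ k) = k := by rw [this, AlgEquiv.apply_symm_apply]
  have h4 := c.aut_cube σ k
  rwa [h3] at h4
where
  add_smul_two {A : Type _} [AddCommGroup A] [Module F A] (h2 : (2 : F) ≠ 0) {a b : A} :
      a - b = ((2 : F)⁻¹ • a - (2 : F)⁻¹ • b) + ((2 : F)⁻¹ • a - (2 : F)⁻¹ • b) := by
    rw [← smul_sub, ← add_smul, show (2 : F)⁻¹ + 2⁻¹ = 1 by field_simp; norm_num, one_smul]

end CfsgLib.OrthExtThree
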