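import Cfsg.Agent.OrthExtThree.Nine
import Cfsg.Agent.OrthExtThree.Proper
import Cfsg.Agent.ExtField.Bridge

/-!
# The normaliser of a self-adjoint cubic field of matrices in `Ω₉(q)`

`isMaximalIn_cubic_nine`: it is maximal.
-/

set_option autoImplicit false
set_option backward.isDefEq.respectTransparency false

namespace CfsgLib.OrthExtThree

open Matrix Module Cfsg.Geo CfsgLib.Spinor CfsgLib.OrthMax CfsgLib.OrthExtR
open CfsgLib.ExtField (mulVecModule isField_subalgebra exists_dual_comp mem_normalizer_of_conj_mem)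

variable {F : Type*} [Field F] [Fintype F]

set_option maxHeartbeats 1000000 in
set_option synthInstance.maxHeartbeats 100000 in
/-- The normaliser of a self-adjoint cubic field is maximal in `Ω₉(q)`, `q` odd. -/
theorem isMaximalIn_cubic_nine {Q : (Unit ⊕ (Fin 4 ⊕ Fin 4) → F) → F}
    (hQ : IsNondegenerateQuadraticForm Q) (hQdef : Q = Cfsg.quadFormOdd 4 F) (hodd : Odd (Fintype.card F))
    {K : Subalgebra F (Matrix (Unit ⊕ (Fin 4 ⊕ Fin 4)) (Unit ⊕ (Fin 4 ⊕ Fin 4)) F)} (hK : IsFieldSubalgebra 3 K)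
    (hsa : IsSelfAdjointFor (QuadraticMap.polar Q) K) :
    IsMaximalIn (omegaGL Q) (subalgebraNormalizer K ⊓ omegaGL Q) := by
  classical
  have h2 : (2 : F) ≠ 0 := fun h => by
    have hc : (Fintype.card F : F) = 0 := FiniteField.cast_card_eq_zero F
    obtain ⟨k, hk⟩ := hodd
    rw [hk] at hc
    push_cast at hc
    rw [h, zero_mul, zero_add] at hc
    exact one_ne_zero hc
  set q := AschbacherQuad.quadForm hQ
  have hq := AschbacherQuad.quadForm_nondegenerate hQ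
  change IsMaximalIn (omegaGL ⇑q) (subalgebraNormalizer K ⊓ omegaGL ⇑q)
  have hsa' : IsSelfAdjointFor (QuadraticMap.polar ⇑q) K := hsa
  let _ : Field K := (isField_subalgebra hK).toField
  let _ : Module K (Unit ⊕ (Fin 4 ⊕ Fin 4) → F) := mulVecModule K
  have hsmul : ∀ (a : K) (v : Unit ⊕ (Fin 4 ⊕ Fin 4) → F), a • v = (a : Matrix (Unit ⊕ (Fin 4 ⊕ Fin 4)) (Unit ⊕ (Fin 4 ⊕ Fin 4)) F) *ᵥ v := fun _ _ => rfl
  have : IsScalarTower F K (Unit ⊕ (Fin 4 ⊕ Fin 4) → F) := ⟨fun c a v => by rw [hsmul, hsmul]; exact Matrix.smul_mulVec c _ v⟩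
  have : Finite K := Subtype.finite
  have htr0 : Algebra.trace F K ≠ 0 := by
    obtain ⟨z, hz⟩ := Algebra.trace_surjective F K 1
    exact fun h => zero_ne_one (by rw [← hz, h]; rfl)
  choose ψ hψ using fun x => exists_dual_comp (K := K) htr0 (QuadraticMap.polarBilin q x)
  have huniq : ∀ a b : K, (∀ l : K, Algebra.trace F K (l * a) = Algebra.trace F K (l * b)) → a = b := by
    intro a b h
    by_contra hne
    obtain ⟨s, hs'⟩ := Algebra.trace_surjective F K 1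
    have := h (s / (a - b))
    rw [← sub_eq_zero, ← map_sub, ← mul_sub, div_mul_cancel₀ _ (sub_ne_zero.mpr hne), hs'] at this
    exact one_ne_zero this
  have hψl : ∀ (x y : Unit ⊕ (Fin 4 ⊕ Fin 4) → F) (l : K), Algebra.trace F K (l * ψ x y) = QuadraticMap.polar (⇑q) x (l • y) :=
    fun x y l => by rw [← smul_eq_mul, ← map_smul, hψ, QuadraticMap.polarBilin_apply_apply]
  have hkl : ∀ (l : K) (x y : Unit ⊕ (Fin 4 ⊕ Fin 4) → F),
      QuadraticMap.polar (⇑q) (l • x) y = QuadraticMap.polar (⇑q) x (l • y) := fun l x y => by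
    rw [hsmul, hsmul]; exact hsa' _ l.2 x y
  let h : (Unit ⊕ (Fin 4 ⊕ Fin 4) → F) →ₗ[K] (Unit ⊕ (Fin 4 ⊕ Fin 4) → F) →ₗ[K] K :=
    { toFun := ψ
      map_add' := fun a b => LinearMap.ext fun y => huniq _ _ fun l => by
        rw [hψl, QuadraticMap.polar_add_left, LinearMap.add_apply, mul_add, map_add, hψl, hψl]
      map_smul' := fun k a => LinearMap.ext fun y => huniq _ _ fun l => by
        rw [hψl, hkl, RingHom.id_apply, LinearMap.smul_apply, smul_eq_mul, ← mul_assoc, hψl,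
          smul_smul, mul_comm] }
  have hsymm : ∀ u v, h u v = h v u := fun u v => huniq _ _ fun l => by
    show Algebra.trace F K (l * ψ u v) = Algebra.trace F K (l * ψ v u)
    rw [hψl, hψl, ← hkl, QuadraticMap.polar_comm]
  have hd' : finrank K (Unit ⊕ (Fin 4 ⊕ Fin 4) → F) = 3 := by
    have := Module.finrank_mul_finrank F K (Unit ⊕ (Fin 4 ⊕ Fin 4) → F)
    rw [hK.finrank_eq, Module.finrank_pi] at this
    simp only [Fintype.card_sum, Fintype.card_unit, Fintype.card_fin] at this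
    omega
  let c : Ext q K :=
    { h := h
      tr := fun u v => (hψ u v).symm
      symm := hsymm
      deg := hK.finrank_eq
      dim := hd'.ge
      two := h2
      nondeg := hq }
  have hmem : ∀ g : Isom q, (g : GL (Unit ⊕ (Fin 4 ⊕ Fin 4)) F) ∈ subalgebraNormalizer K ↔ Norm K g := by
    intro g
    constructor
    · intro hg k
      refine ⟨⟨_, (hg k.1).mp k.2⟩, fun v => ?_⟩
      rw [hsmul, hsmul, Matrix.mulVec_mulVec, Matrix.mulVec_mulVec]
      congr 1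
      show ((g : GL (Unit ⊕ (Fin 4 ⊕ Fin 4)) F) : Matrix (Unit ⊕ (Fin 4 ⊕ Fin 4)) (Unit ⊕ (Fin 4 ⊕ Fin 4)) F) * k.1 = _ * ((g : GL (Unit ⊕ (Fin 4 ⊕ Fin 4)) F) : Matrix (Unit ⊕ (Fin 4 ⊕ Fin 4)) (Unit ⊕ (Fin 4 ⊕ Fin 4)) F)
      rw [mul_assoc _ _ ((g : GL (Unit ⊕ (Fin 4 ⊕ Fin 4)) F) : Matrix (Unit ⊕ (Fin 4 ⊕ Fin 4)) (Unit ⊕ (Fin 4 ⊕ Fin 4)) F), Units.inv_mul, mul_one]
    · intro hg
      refine mem_normalizer_of_conj_mem fun k hk => ?_
      obtain ⟨b, hb⟩ := hg ⟨k, hk⟩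
      have e : ((g : GL (Unit ⊕ (Fin 4 ⊕ Fin 4)) F) : Matrix (Unit ⊕ (Fin 4 ⊕ Fin 4)) (Unit ⊕ (Fin 4 ⊕ Fin 4)) F) * k = b.1 * ((g : GL (Unit ⊕ (Fin 4 ⊕ Fin 4)) F) : Matrix (Unit ⊕ (Fin 4 ⊕ Fin 4)) (Unit ⊕ (Fin 4 ⊕ Fin 4)) F) := by
        refine Matrix.ext_iff_mulVec.mpr fun v => ?_
        rw [← Matrix.mulVec_mulVec, ← Matrix.mulVec_mulVec]
        exact hb v
      rw [e, mul_assoc, Units.mul_inv, mul_one]
      exact b.2
  refine OrthMax.isMaximalIn_omega _ ?_ fun M hM g hgM hgΩ hg => ?_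
  · obtain ⟨g, hgΩ, hg⟩ := exists_omega_not_norm c
    exact ⟨g, hgΩ, fun h' => hg ((hmem g).1 h')⟩
  · exact le_trans (omega_le c hd' (counts_nine hq hQdef hodd) (M := M ⊓ Cfsg.Omega F ⇑q)
      (fun x hx hxn => ⟨hM x hx ((hmem x).2 hxn), hx⟩) inf_le_right ⟨hgM, hgΩ⟩ fun h' => hg ((hmem g).2 h'))
      inf_le_left

end CfsgLib.OrthExtThree
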